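import Cfsg.Agent.GWDihedral.Local.Facts
import Cfsg.Agent.GWDihedral.Basic

/-!
GW dihedral, when is a prime full: in a `C`-conjugate position nothing new centralises an invariant Sylow
subgroup of `O`.
-/

set_option autoImplicit false
set_option linter.unusedSectionVars false
set_option linter.style.haveILetI false

namespace Cfsg.Lib.GWD

open Subgroup
open Cfsg.Lib.GW (Core)

universe u

variable {G : Type u} [Group G] [Finite G] {F : GW.Frame G} {p : ℕ} {S : Subgroup G}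

theorem C_eq_O_mul (hm : Minimal G) (T : Sylow 2 G) (hTC : (T : Subgroup G) ≤ F.C) {x : G} (hx : x ∈ F.C) :
    ∃ o ∈ F.O, ∃ τ ∈ (T : Subgroup G), x = o * τ := by
  haveI : Fact (Nat.Prime 2) := ⟨Nat.prime_two⟩
  obtain ⟨m, hm4, hS⟩ := hm.sylow T
  obtain ⟨N, hN, hodd, k, hk⟩ := Cfsg.Agent.S0514.result T m (by omega) hS F.t F.t_order
  haveI := hN
  have hnil : IsPGroup 2 (↥F.C ⧸ Cfsg.oddCore F.C) := by
    have h : IsPGroup 2 (↥(centralizer ({F.t} : Set G)) ⧸ N) :=
      IsPGroup.of_card (n := k) (by rw [← index_eq_card, hk])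
    exact h.of_surjective (QuotientGroup.map N (Cfsg.oddCore (centralizer ({F.t} : Set G))) (MonoidHom.id _)
      (fun y hy => Cfsg.Lib.Components.le_pPrimeCore (Nat.coprime_two_right.2 hodd) hy))
      (QuotientGroup.map_surjective_of_surjective _ _ _ (QuotientGroup.mk_surjective) _)
  set π := QuotientGroup.mk' (Cfsg.oddCore F.C)
  set T' : Sylow 2 F.C := T.subtype hTC
  have htop := ((T'.mapSurjective (QuotientGroup.mk'_surjective (Cfsg.oddCore F.C))).3
    (hnil.of_equiv Subgroup.topEquiv.symm) le_top)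
  obtain ⟨y, hy, hye⟩ : π ⟨x, hx⟩ ∈ (T' : Subgroup F.C).map π := htop.le (mem_top (π ⟨x, hx⟩))
  rw [Sylow.coe_subtype] at hy
  have h1 : π (⟨x, hx⟩ * y⁻¹) = 1 := by rw [map_mul, map_inv, hye, mul_inv_cancel]
  exact ⟨x * (y : G)⁻¹, ⟨(⟨x, hx⟩ : F.C) * y⁻¹, (QuotientGroup.eq_one_iff ((⟨x, hx⟩ : F.C) * y⁻¹)).1 h1, rfl⟩, y,
    mem_subgroupOf.1 hy, (inv_mul_cancel_right x y).symm⟩

/-- If a `C`-conjugate of a 2-group normalising `S` inside a Sylow subgroup centralises `S`, so does the group. -/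
theorem cent_transfer (hm : Minimal G) (hd : SylData F p S) (T : Sylow 2 G) (hTC : (T : Subgroup G) ≤ F.C)
    (hTS : (T : Subgroup G) ≤ normalizer (S : Set G)) {X : Subgroup G} (hXT : X ≤ (T : Subgroup G)) {g : G}
    (hg : g ∈ F.C) (hc : S ≤ centralizer ((X.map (MulAut.conj g).toMonoidHom : Subgroup G) : Set G)) :
    S ≤ centralizer (X : Set G) := by
  haveI : Fact p.Prime := ⟨hd.prime⟩
  haveI : Fact (Nat.Prime 2) := ⟨Nat.prime_two⟩
  obtain ⟨o, ho, τ, hτ, rfl⟩ := C_eq_O_mul hm T hTC hg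
  set X' := X.map (MulAut.conj τ).toMonoidHom with hX'
  have hX'T : X' ≤ (T : Subgroup G) := by
    rintro _ ⟨x, hx, rfl⟩
    exact mul_mem (mul_mem hτ (hXT hx)) (inv_mem hτ)
  set S' := S.map (MulAut.conj o⁻¹).toMonoidHom with hS'
  have hS'c : ∀ x ∈ X', ∀ y ∈ S', Commute x y := by
    rintro _ ⟨x, hx, rfl⟩ _ ⟨y, hy, rfl⟩
    have h1 : Commute (o * τ * x * (o * τ)⁻¹) y := mem_centralizer_iff.1 (hc hy) _ ⟨x, hx, rfl⟩
    have h2 := h1.map (MulAut.conj o⁻¹).toMonoidHom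
    simp only [MulEquiv.coe_toMonoidHom, MulAut.conj_apply] at h2 ⊢
    rwa [show o⁻¹ * (o * τ * x * (o * τ)⁻¹) * o⁻¹⁻¹ = τ * x * τ⁻¹ by group] at h2
  have hX'O : X' ≤ normalizer (F.O : Set G) := (hX'T.trans hTC).trans F.C_le_normalizer_O
  have hodd := F.odd_card_O
  have hS'O : S' ≤ F.O := by
    rintro _ ⟨y, hy, rfl⟩
    exact mul_mem (mul_mem (inv_mem ho) (hd.le hy)) (inv_mem (inv_mem ho))
  have hS's : ¬ p ∣ S'.relIndex F.O := by
    have e : F.O.map (MulAut.conj o⁻¹).toMonoidHom = F.O :=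
      Cfsg.Lib.Coprime.conjMap_eq_self (le_normalizer (inv_mem ho))
    rw [← e, hS', relIndex_map_map_of_injective _ _ (MulAut.conj o⁻¹).injective]
    exact hd.sylow
  let P : Sylow p F.O := (hd.pgroup.comap_subtype (K := F.O)).toSylow hd.sylow
  let P' : Sylow p F.O := ((hd.pgroup.map (MulAut.conj o⁻¹).toMonoidHom).comap_subtype (K := F.O)).toSylow hS's
  have eP : (P : Subgroup F.O).map F.O.subtype = S := map_subgroupOf_eq_of_le hd.le
  have eP' : (P' : Subgroup F.O).map F.O.subtype = S' := map_subgroupOf_eq_of_le hS'O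
  haveI := Cfsg.Agent.PF.isSolvable_of_odd F.O hodd
  have hcop : (Nat.card X').Coprime (Nat.card F.O) := by
    obtain ⟨k, hk⟩ := IsPGroup.iff_card.1 (T.2.to_le hX'T)
    rw [hk]; exact Nat.Coprime.pow_left k (Nat.coprime_two_left.2 hodd)
  obtain ⟨c, hcX, he⟩ := Cfsg.Lib.Coprime.invariant_sylow_conj hX'O hcop (Or.inr inferInstance) p P' P
    (by rw [eP']; exact fun x hx => centralizer_le_normalizer _ (mem_centralizer_iff.2 fun y hy =>
      ((hS'c x hx y hy).symm).eq))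
    (by rw [eP]; exact hX'T.trans hTS)
  have he' := congrArg (fun R : Sylow p F.O => (R : Subgroup F.O).map F.O.subtype) he
  simp only [Cfsg.Lib.Coprime.map_subtype_smul, eP, eP'] at he'
  -- `X'` centralises `S`
  have hX'S : ∀ x ∈ X', ∀ y ∈ S, Commute x y := by
    intro x hx y hy
    rw [← he'] at hy
    obtain ⟨z, hz, rfl⟩ := hy
    have h2 := (hS'c x hx z hz).map (MulAut.conj (c : G)).toMonoidHom
    simp only [MulEquiv.coe_toMonoidHom, MulAut.conj_apply] at h2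
    rw [show (c : G) * x * (c : G)⁻¹ = x by rw [← mem_centralizer_iff.1 hcX x hx, mul_inv_cancel_right]] at h2
    exact h2
  intro y hy
  refine mem_centralizer_iff.2 fun x hx => ?_
  have hy' : τ * y * τ⁻¹ ∈ S := (mem_normalizer_iff.1 (hTS hτ) y).1 hy
  have h := (hX'S _ ⟨x, hx, rfl⟩ _ hy').map (MulAut.conj τ⁻¹).toMonoidHom
  simp only [MulEquiv.coe_toMonoidHom, MulAut.conj_apply, inv_inv] at h
  rwa [show τ⁻¹ * (τ * x * τ⁻¹) * τ = x by group, show τ⁻¹ * (τ * y * τ⁻¹) * τ = y by group] at h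

/-- A four-group through `t` moving an invariant `S` moves it in all its conjugates inside `C`. -/
theorem moved_self (hm : Minimal G) (hd : SylData F p S) (T : Sylow 2 G) (hTC : (T : Subgroup G) ≤ F.C)
    (hTS : (T : Subgroup G) ≤ normalizer (S : Set G)) (hUT : F.U ≤ (T : Subgroup G))
    (hmov : ∃ x ∈ S, F.u * x * F.u⁻¹ ≠ x) : Moved F S F := by
  intro g hle hcen
  obtain ⟨x₀, hx₀, hne⟩ := hmov
  -- adjust `g` by a rotation to fix `t`
  have htV : F.t ∈ F.U.map (MulAut.conj g).toMonoidHom := by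
    have := t_mem_of_le (F := F) hm (V := conjFrame g F) (by rw [conjFrame_U]; exact hle)
    rwa [conjFrame_U] at this
  obtain ⟨v, hv, hvt⟩ := htV
  simp only [MulEquiv.coe_toMonoidHom, MulAut.conj_apply] at hvt
  obtain ⟨a, ha, hav⟩ : ∃ a ∈ normalizer (F.U : Set G), a * F.t * a⁻¹ = v := by
    rcases F.mem_U.1 hv with e | e | e | e <;> subst e
    · exact absurd hvt (by simp [F.t_ne_one.symm])
    · exact ⟨1, one_mem _, by group⟩
    · exact ⟨F.σ, F.σ_mem, F.σ_t⟩
    · exact ⟨F.σ * F.σ, mul_mem F.σ_mem F.σ_mem, by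
        rw [show F.σ * F.σ * F.t * (F.σ * F.σ)⁻¹ = F.σ * (F.σ * F.t * F.σ⁻¹) * F.σ⁻¹ by group, F.σ_t, F.σ_u]⟩
  have hgC : g * a ∈ F.C := F.mem_C.2 (mul_inv_eq_iff_eq_mul.1 (by
    rw [show g * a * F.t * (g * a)⁻¹ = g * (a * F.t * a⁻¹) * g⁻¹ by group, hav, hvt]))
  have hmap : F.U.map (MulAut.conj (g * a)).toMonoidHom = F.U.map (MulAut.conj g).toMonoidHom := by
    rw [map_mul]
    show F.U.map ((MulAut.conj g).toMonoidHom.comp (MulAut.conj a).toMonoidHom) = _
    rw [← Subgroup.map_map]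
    exact congrArg (Subgroup.map _) (Cfsg.Lib.Coprime.conjMap_eq_self ha)
  have h := cent_transfer hm hd T hTC hTS hUT hgC (hmap.symm ▸ hcen)
  exact hne (mul_inv_eq_iff_eq_mul.2 (F.mem_centralizer_U.1 (h hx₀)).2.symm)

/-- An involution and an element not commuting with it, both centralising `S`, keep the normaliser of `S` in
`C`. -/
theorem normalizer_le_of_pair (hm : Minimal G) (hmax : IsCoatom F.C) (hd : SylData F p S) {w a : G}
    (hw2 : w * w = 1) (hw : w ∈ centralizer (S : Set G)) (ha : a ∈ centralizer (S : Set G)) (hne : ¬ Commute a w) :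
    normalizer (S : Set G) ≤ F.C := by
  haveI : Fact p.Prime := ⟨hd.prime⟩
  intro n hn
  refine F.mem_C.2 (mul_inv_eq_iff_eq_mul.1 ?_)
  set t₁ := n * F.t * n⁻¹ with ht₁
  have hct : ∀ x ∈ centralizer (S : Set G), Commute x F.t := fun x hx => F.mem_C.1 (hd.cent_le hm hmax hx)
  have hc1 : ∀ x ∈ centralizer (S : Set G), Commute x t₁ := fun x hx => by
    have hx' : n⁻¹ * x * n ∈ centralizer (S : Set G) := mem_centralizer_iff.2 fun y hy => by
      have h := mem_centralizer_iff.1 hx _ ((mem_normalizer_iff.1 hn y).1 hy)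
      calc y * (n⁻¹ * x * n) = n⁻¹ * (n * y * n⁻¹ * x) * n := by group
        _ = n⁻¹ * (x * (n * y * n⁻¹)) * n := by rw [h]
        _ = n⁻¹ * x * n * y := by group
    have h := (hct _ hx').map (MulAut.conj n).toMonoidHom
    simp only [MulEquiv.coe_toMonoidHom, MulAut.conj_apply] at h
    rwa [show n * (n⁻¹ * x * n) * n⁻¹ = x by group] at h
  have h1 : t₁ ∈ centralizer (S : Set G) := mem_centralizer_iff.2 fun y hy => by
    have h := mem_centralizer_iff.1 hd.t_mem_cent _ ((mem_normalizer_iff''.1 hn y).1 hy)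
    calc y * (n * F.t * n⁻¹) = n * (n⁻¹ * y * n * F.t) * n⁻¹ := by group
      _ = n * (F.t * (n⁻¹ * y * n)) * n⁻¹ := by rw [h]
      _ = n * F.t * n⁻¹ * y := by group
  have ht1 : t₁ * t₁ = 1 := by rw [ht₁, conj_mul, F.t_sq, mul_one, mul_inv_cancel]
  have hat : Commute a F.t := hct a ha
  rcases four_closed hm F.t_sq hw2 ht1 F.t_ne_one (fun e => hne (e ▸ Commute.one_right a))
      (fun e => hne (e ▸ hat)) (hct w hw).symm (hct _ h1) (hc1 w hw).symm with e | e | e | e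
  · exact absurd (conj_eq_one_iff.1 e) F.t_ne_one
  · exact e
  · exact absurd (e ▸ hc1 a ha) hne
  · exact absurd (by
      have h := hat.mul_right (e ▸ hc1 a ha)
      rwa [← mul_assoc, F.t_sq, one_mul] at h) hne

namespace Frame

variable (D : Frame G)

theorem S_le_normalizer_of {X : Subgroup G} (hs : D.s ∈ normalizer (X : Set G))
    (hr : D.r ∈ normalizer (X : Set G)) : D.S ≤ normalizer (X : Set G) :=
  (closure_le _).2 (Set.insert_subset hs (Set.singleton_subset_iff.2 hr))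

/-- Every involution of `C` other than `t` moves `S` once both reflections do. -/
theorem full_of_moved (hm : Minimal G) {p : ℕ} {S : Subgroup G} (hd : SylData D.four₁ p S)
    (hSn : D.S ≤ normalizer (S : Set G)) (h₁ : ∃ x ∈ S, D.r * x * D.r⁻¹ ≠ x)
    (h₂ : ∃ x ∈ S, D.r * D.s * x * (D.r * D.s)⁻¹ ≠ x) : Full D.four₁ S := by
  haveI : Fact (Nat.Prime 2) := ⟨Nat.prime_two⟩
  intro v hv hv2 hvt hcen
  have hTC : (D.sylow : Subgroup G) ≤ D.four₁.C := D.coe_sylow.le.trans D.S_le_C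
  have hTS : (D.sylow : Subgroup G) ≤ normalizer (S : Set G) := D.coe_sylow.le.trans hSn
  obtain ⟨R, hR⟩ := (IsPGroup.of_card (G := zpowers (⟨v, hv⟩ : D.four₁.C)) (p := 2) (n := 1)
    (by rw [Nat.card_zpowers, Subgroup.orderOf_mk, hv2, pow_one])).exists_le_sylow
  obtain ⟨c, hc⟩ := MulAction.exists_smul_eq D.four₁.C R (D.sylow.subtype hTC)
  set w := (c : G) * v * (c : G)⁻¹ with hw
  have hwS : w ∈ D.S := by
    have h1 : c * ⟨v, hv⟩ * c⁻¹ ∈ (D.sylow.subtype hTC : Subgroup D.four₁.C) := by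
      rw [← hc]; exact ⟨_, hR (mem_zpowers _), rfl⟩
    rw [Sylow.coe_subtype] at h1
    exact D.coe_sylow ▸ mem_subgroupOf.1 h1
  have hw2 : orderOf w = 2 := (MulEquiv.orderOf_eq (MulAut.conj (c : G)) v).trans hv2
  have hwt : w ≠ D.t := fun e => hvt ((MulAut.conj (c : G)).injective
    (show (c : G) * v * (c : G)⁻¹ = (c : G) * D.t * (c : G)⁻¹ by
      rw [← hw, e, mul_inv_eq_iff_eq_mul.2 (D.mem_C.1 c.2)]))
  -- `w` is conjugate in `S` to one of the two reflections
  obtain ⟨τ, hτ, hcase⟩ : ∃ τ ∈ D.S, τ * w * τ⁻¹ = D.r ∨ τ * w * τ⁻¹ = D.r * D.s := by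
    have hws : w ∉ zpowers D.s := fun h => by
      have hww : w * w = 1 := by rw [← pow_two, ← hw2, pow_orderOf_eq_one]
      rcases D.data.sq_zpowers h hww with e | e
      · rw [e, orderOf_one] at hw2; omega
      · exact hwt (e.trans D.t_eq)
    rcases D.S_cases hwS with h | h
    · exact absurd h hws
    obtain ⟨i, hi⟩ := mem_zpowers_iff.1 h
    have hr : D.r⁻¹ = D.r := Cfsg.Lib.GenDihedral.inv_of_two D.r_order
    have hwi : w = D.s ^ i * D.r := by
      rw [hi, mul_assoc, Cfsg.Lib.GenDihedral.mul_self_of_two D.r_order, mul_one]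
    have hrel : ∀ j : ℤ, D.r * D.s ^ j = D.s ^ (-j) * D.r := fun j => by
      rw [zpow_neg, ← inv_zpow, ← D.rel, conj_zpow]; group
    have hconj : ∀ j : ℤ, D.s ^ j * w * (D.s ^ j)⁻¹ = D.s ^ (i + 2 * j) * D.r := fun j => by
      rw [hwi, ← zpow_neg, mul_assoc (D.s ^ j), mul_assoc (D.s ^ i), hrel, neg_neg, ← mul_assoc, ← mul_assoc,
        ← zpow_add, ← zpow_add, show j + i + j = i + 2 * j by ring]
    rcases Int.even_or_odd' i with ⟨k, rfl | rfl⟩
    · refine ⟨D.s ^ (-k), zpow_mem D.s_mem_S _, Or.inl ?_⟩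
      rw [hconj, show 2 * k + 2 * -k = 0 by ring, zpow_zero, one_mul]
    · refine ⟨D.s ^ (-k - 1), zpow_mem D.s_mem_S _, Or.inr ?_⟩
      rw [hconj, show 2 * k + 1 + 2 * (-k - 1) = -(1 : ℤ) by ring, ← hrel, zpow_one]
  have hcC : (c : G)⁻¹ * τ⁻¹ ∈ D.four₁.C := mul_mem (inv_mem c.2) (inv_mem (D.S_le_C hτ))
  have key : ∀ y ∈ D.S, τ * w * τ⁻¹ = y → S ≤ centralizer {y} := fun y hy e => by
    have h := cent_transfer hm hd D.sylow hTC hTS (X := zpowers y) (g := (c : G)⁻¹ * τ⁻¹)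
      (zpowers_le.2 (by rw [D.coe_sylow]; exact hy)) hcC (by
        rw [MonoidHom.map_zpowers]
        intro z hz
        refine mem_centralizer_iff.2 ?_
        rintro _ ⟨j, rfl⟩
        have e2 : (MulAut.conj ((c : G)⁻¹ * τ⁻¹)).toMonoidHom y = v := by
          show (c : G)⁻¹ * τ⁻¹ * y * ((c : G)⁻¹ * τ⁻¹)⁻¹ = v
          rw [← e, hw]; group
        rw [e2]
        exact ((show Commute v z from (mem_centralizer_singleton_iff.1 (hcen hz)).symm).zpow_left j).eq)
    exact h.trans (centralizer_le (Set.singleton_subset_iff.2 (mem_zpowers y)))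
  rcases hcase with e | e
  · obtain ⟨x, hx, hne⟩ := h₁
    exact hne (mul_inv_eq_iff_eq_mul.2 (mem_centralizer_singleton_iff.1 (key _ D.r_mem_S e hx)).symm)
  · obtain ⟨x, hx, hne⟩ := h₂
    exact hne (mul_inv_eq_iff_eq_mul.2 (mem_centralizer_singleton_iff.1
      (key _ (mul_mem D.r_mem_S D.s_mem_S) e hx)).symm)

/-- For `p ≠ 3`, or dihedral Sylow 2-subgroups of order at least 16, `S` is a Sylow subgroup of `G` and every
invariant `p`-subgroup is centralised by an involution of either four-group. -/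
theorem cent_inv_of_ne_three (hm : Minimal G) (hmax : IsCoatom D.C) (hP : ∀ V : GW.Frame G, ProperSpec V) {p : ℕ}
    {S : Subgroup G} (hd : SylData D.four₁ p S) (hSn : D.S ≤ normalizer (S : Set G)) (h : p ≠ 3 ∨ 4 ≤ D.n) :
    (∃ P : Sylow p G, (P : Subgroup G) = S) ∧
      (∀ X : Subgroup G, IsPGroup p X → D.four₁.U ≤ normalizer (X : Set G) →
        ∃ s ∈ D.four₁.U, s ≠ 1 ∧ X ≤ centralizer {s}) ∧
      ∀ X : Subgroup G, IsPGroup p X → D.four₂.U ≤ normalizer (X : Set G) →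
        ∃ s ∈ D.four₂.U, s ≠ 1 ∧ X ≤ centralizer {s} := by
  haveI : Fact p.Prime := ⟨hd.prime⟩
  obtain ⟨P, hPS⟩ : ∃ P : Sylow p G, (P : Subgroup G) = S := by
    refine hd.exists_sylow_eq hm fun q hq k hk => ?_
    by_cases h3 : p = 3
    swap
    · exact hd.commute_t (F := D.four₁) hm hmax h3 hq hk
    have hn := h.resolve_left (not_not.2 h3)
    have hs2 : ∀ w : G, w * w = 1 → w ∈ centralizer (S : Set G) →
        D.s * w * D.s⁻¹ = D.s ^ 2 * w → normalizer (S : Set G) ≤ D.four₁.C := by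
      intro w hw2 hw hsw
      have hwi : w⁻¹ = w := inv_eq_of_mul_eq_one_right hw2
      have hsS := hSn D.s_mem_S
      have hsw' : D.s * w * D.s⁻¹ ∈ centralizer (S : Set G) := mem_centralizer_iff.2 fun y hy => by
        have h := mem_centralizer_iff.1 hw _ ((mem_normalizer_iff''.1 hsS y).1 hy)
        calc y * (D.s * w * D.s⁻¹) = D.s * (D.s⁻¹ * y * D.s * w) * D.s⁻¹ := by group
          _ = D.s * (w * (D.s⁻¹ * y * D.s)) * D.s⁻¹ := by rw [h]
          _ = D.s * w * D.s⁻¹ * y := by group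
      have hs2' : D.s ^ 2 ∈ centralizer (S : Set G) := by
        have h := mul_mem hsw' hw
        rwa [hsw, mul_assoc, hw2, mul_one] at h
      refine normalizer_le_of_pair hm hmax hd hw2 hw hs2' fun hc => ?_
      -- then `s ^ 4 = 1`
      have h4 : D.s ^ 4 = 1 := by
        have h1 : D.s ^ 2 * w * (D.s ^ 2)⁻¹ = w := by rw [hc.eq, mul_inv_cancel_right]
        have h2 : D.s ^ 2 * w * (D.s ^ 2)⁻¹ = D.s ^ 4 * w := by
          calc D.s ^ 2 * w * (D.s ^ 2)⁻¹ = D.s * (D.s * w * D.s⁻¹) * D.s⁻¹ := by rw [pow_two]; group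
            _ = D.s * (D.s ^ 2 * w) * D.s⁻¹ := by rw [hsw]
            _ = D.s ^ 3 * (w * D.s⁻¹) := by group
            _ = D.s ^ 2 * (D.s * w * D.s⁻¹) := by group
            _ = D.s ^ 4 * w := by rw [hsw, ← mul_assoc, ← pow_add]
        rw [h1] at h2
        exact mul_eq_right.1 h2.symm
      have h5 := orderOf_dvd_of_pow_eq_one h4
      rw [D.s_order] at h5
      have := Nat.le_of_dvd (by norm_num) h5
      have := Nat.pow_le_pow_right two_pos (show 3 ≤ D.n - 1 by omega)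
      omega
    by_cases hf : (∃ x ∈ S, D.r * x * D.r⁻¹ ≠ x) ∧ ∃ x ∈ S, D.r * D.s * x * (D.r * D.s)⁻¹ ≠ x
    · exact Full.normalizer_le (F := D.four₁) hm hmax hd (D.full_of_moved hm hd hSn hf.1 hf.2) hq
    rw [not_and_or] at hf
    push Not at hf
    have hr : D.r⁻¹ = D.r := Cfsg.Lib.GenDihedral.inv_of_two D.r_order
    have hr2 : D.r * D.r = 1 := Cfsg.Lib.GenDihedral.mul_self_of_two D.r_order
    have e1 : D.s * D.r = D.r * D.s⁻¹ := by
      rw [← D.rel, hr, ← mul_assoc, ← mul_assoc, hr2, one_mul]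
    rcases hf with hf | hf
    · refine hs2 D.r hr2 (mem_centralizer_iff.2 fun y hy => (mul_inv_eq_iff_eq_mul.1 (hf y hy)).symm) ?_ hq
      rw [pow_two, mul_assoc D.s D.s, e1, ← mul_assoc D.s D.r, e1]
    · refine hs2 (D.r * D.s) (Cfsg.Lib.GenDihedral.mul_self_of_two D.rs_order)
        (mem_centralizer_iff.2 fun y hy => (mul_inv_eq_iff_eq_mul.1 (hf y hy)).symm) ?_ hq
      rw [show D.s * (D.r * D.s) * D.s⁻¹ = D.s * D.r by group, pow_two, mul_assoc D.s D.s, ← mul_assoc D.s D.r, e1,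
        inv_mul_cancel_right, e1]
  have hcore := coreFixed_all hm hd (fun V => (hP V).odd) hPS
  exact ⟨⟨P, hPS⟩, fun X hX hXU => cent_inv_of hm hd (hP D.four₁).split hPS hcore hX hXU,
    fun X hX hXU => cent_inv_of (F := D.four₂) hm ⟨hd.prime, hd.ne_bot, hd.le, hd.pgroup, hd.sylow⟩
      (hP D.four₂).split hPS hcore hX hXU⟩

/-- The local facts at both four-groups when both reflections move an invariant Sylow subgroup of `O`. -/
theorem local_both (hm : Minimal G) (hP : ∀ V : GW.Frame G, ProperSpec V) (hmax : IsCoatom D.C) {p : ℕ}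
    {S : Subgroup G} (hp : p.Prime) (hR : D.four₁.R p ≠ ⊥) (h₁ : D.four₁.MovedSylow p S)
    (h₂ : D.four₂.MovedSylow p S) (hSn : D.S ≤ normalizer (S : Set G)) :
    LocalSpec D.four₁ p S ∧ LocalSpec D.four₂ p S := by
  have hd : SylData D.four₁ p S := ⟨hp, hR, h₁.le, h₁.pgroup, h₁.sylow⟩
  have hfull := D.full_of_moved hm hd hSn h₁.moved h₂.moved
  exact ⟨local_full hm hmax hP hd hfull h₁.norm,
    local_full (F := D.four₂) hm hmax hP ⟨hp, hR, h₁.le, h₁.pgroup, h₁.sylow⟩ hfull h₂.norm⟩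

end Frame

end Cfsg.Lib.GWD
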