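import Cfsg.Agent.GWDihedral.Local.Full
import Cfsg.Agent.GWDihedral.Proper.Top

/-!
GW dihedral, the local facts from the minimal configuration alone.
-/

set_option autoImplicit false
set_option linter.unusedSectionVars false

namespace Cfsg.Lib.GWD

universe u

variable {G : Type u} [Group G] [Finite G]

/-- The local facts at both four-groups at a full prime. -/
theorem Minimal.local_both (hm : Minimal G) (D : Frame G) (hmax : IsCoatom D.C) {p : ℕ} {S : Subgroup G}
    (hp : p.Prime) (hR : D.four₁.R p ≠ ⊥) (h₁ : D.four₁.MovedSylow p S) (h₂ : D.four₂.MovedSylow p S)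
    (hSn : D.S ≤ Subgroup.normalizer (S : Set G)) : LocalSpec D.four₁ p S ∧ LocalSpec D.four₂ p S :=
  D.local_both hm (fun V => hm.properSpec V) hmax hp hR h₁ h₂ hSn

/-- The local facts at any prime other than three. -/
theorem Minimal.local_any (hm : Minimal G) {F : GW.Frame G} (hmax : IsCoatom F.C) {p : ℕ} {S : Subgroup G}
    (hd : SylData F p S) (h3 : p ≠ 3) :
    (∃ P : Sylow p G, (P : Subgroup G) = S) ∧ (∀ V : GW.Frame G, CoreFixed V p) ∧
      ∀ X : Subgroup G, IsPGroup p X → F.U ≤ Subgroup.normalizer (X : Set G) →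
        ∃ s ∈ F.U, s ≠ 1 ∧ X ≤ Subgroup.centralizer {s} :=
  Cfsg.Lib.GWD.local_any hm hmax (fun V => hm.properSpec V) hd h3

end Cfsg.Lib.GWD
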