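import Cfsg.Agent.GWDihedral.Local.Lc
import Mathlib.GroupTheory.OrderOfElement

/-!
GW dihedral, the local facts at a prime with `O_p(O) ≠ 1` when `C(t)` is maximal
(notes/gw_dihedral_c_h1.md, section 0).
-/

set_option autoImplicit false
set_option linter.unusedSectionVars false
set_option linter.style.haveILetI false

namespace Cfsg.Lib.GWD

open Subgroup
open Cfsg.Lib.GW (Core le_normalizer_core core_le exists_conj_of_cong commute_of_sq')
open Cfsg.Lib.GW.Frame (odd_of_pgroup normalizer_le_zj odd_card_core exists_grow mem_of_pgroup_sylow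
  not_dvd_relIndex_inf mem_zj_of_central le_core)

universe u

variable {G : Type u} [Group G] [Finite G]

/-- The conjugate of a four-group with its rotation. -/
@[reducible] def conjFrame (g : G) (V : GW.Frame G) : GW.Frame G where
  t := g * V.t * g⁻¹
  u := g * V.u * g⁻¹
  σ := g * V.σ * g⁻¹
  t_order := (MulEquiv.orderOf_eq (MulAut.conj g) V.t).trans V.t_order
  u_order := (MulEquiv.orderOf_eq (MulAut.conj g) V.u).trans V.u_order
  t_ne_u := fun e => V.t_ne_u ((MulAut.conj g).injective e)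
  comm := by rw [conj_mul, conj_mul, V.comm]
  σ_t := by rw [← V.σ_t]; group
  σ_u := by
    rw [show g * V.σ * g⁻¹ * (g * V.u * g⁻¹) * (g * V.σ * g⁻¹)⁻¹ = g * (V.σ * V.u * V.σ⁻¹) * g⁻¹ by group,
      V.σ_u, conj_mul]

theorem conjFrame_U (g : G) (V : GW.Frame G) : (conjFrame g V).U = V.U.map (MulAut.conj g).toMonoidHom := by
  rw [GW.Frame.U, GW.Frame.U, MonoidHom.map_closure, Set.image_pair]; rfl

theorem Rot.conj {V : GW.Frame G} {H K : Subgroup G} (h : Rot V H) (g : G)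
    (hg : ∀ x ∈ H, g * x * g⁻¹ ∈ K) : Rot (conjFrame g V) K := by
  obtain ⟨hU, x, hx, h1, h2⟩ := h
  refine ⟨?_, g * x * g⁻¹, hg x hx, ?_, ?_⟩
  · rw [conjFrame_U]
    rintro _ ⟨y, hy, rfl⟩
    exact hg y (hU hy)
  · show g * x * g⁻¹ * (g * V.t * g⁻¹) * (g * x * g⁻¹)⁻¹ = g * V.u * g⁻¹
    rw [← h1]; group
  · show g * x * g⁻¹ * (g * V.u * g⁻¹) * (g * x * g⁻¹)⁻¹ = g * V.t * g⁻¹ * (g * V.u * g⁻¹)
    rw [show g * x * g⁻¹ * (g * V.u * g⁻¹) * (g * x * g⁻¹)⁻¹ = g * (x * V.u * x⁻¹) * g⁻¹ by group, h2, conj_mul]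

/-- The same four-group, its involutions shifted along the rotation. -/
theorem exists_shift (V : GW.Frame G) {H : Subgroup G} (hr : Rot V H) :
    ∃ V' : GW.Frame G, V'.t = V.u ∧ V'.u = V.t * V.u ∧ V'.U = V.U ∧ Rot V' H := by
  have e : V.u * (V.t * V.u) = V.t := by rw [V.comm, ← mul_assoc, V.u_sq, one_mul]
  let V' : GW.Frame G :=
    { t := V.u, u := V.t * V.u, σ := V.σ
      t_order := V.u_order, u_order := V.v_order
      t_ne_u := fun h => V.t_ne_one (mul_eq_right.1 h.symm)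
      comm := by rw [e, mul_assoc, V.u_sq, mul_one]
      σ_t := V.σ_u, σ_u := V.σ_v.trans e.symm }
  have hU : V'.U = V.U := le_antisymm (V'.U_le_iff.2 ⟨V.u_mem_U, mul_mem V.t_mem_U V.u_mem_U⟩)
    (V.U_le_iff.2 ⟨V'.mem_U.2 (Or.inr (Or.inr (Or.inr e.symm))), V'.t_mem_U⟩)
  obtain ⟨g, hg, -, -, h2, h3⟩ := exists_rot V hr
  exact ⟨V', rfl, rfl, hU, hU.le.trans hr.1, g, hg, h2, h3.trans e.symm⟩

/-- A rotated four-group through `t` is a frame at `t`. -/
theorem exists_frame_through {V : GW.Frame G} {H : Subgroup G} (hr : Rot V H) {t : G} (ht : t ∈ V.U)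
    (ht1 : t ≠ 1) : ∃ V' : GW.Frame G, V'.t = t ∧ V'.U = V.U ∧ Rot V' H := by
  rcases V.mem_U.1 ht with e | e | e | e
  · exact absurd e ht1
  · exact ⟨V, e.symm, rfl, hr⟩
  · obtain ⟨V', h1, -, h3, h4⟩ := exists_shift V hr
    exact ⟨V', h1.trans e.symm, h3, h4⟩
  · obtain ⟨V', h1, h2, h3, h4⟩ := exists_shift V hr
    obtain ⟨V'', g1, -, g3, g4⟩ := exists_shift V' h4
    exact ⟨V'', g1.trans (h2.trans e.symm), g3.trans h3, g4⟩

/-- Three pairwise commuting involutions lie in a four-group. -/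
theorem four_closed (hm : Minimal G) {a b x : G} (ha : a * a = 1) (hb : b * b = 1) (hx : x * x = 1)
    (ha1 : a ≠ 1) (hb1 : b ≠ 1) (hab : a ≠ b) (hc : Commute a b) (hxa : Commute x a) (hxb : Commute x b) :
    x = 1 ∨ x = a ∨ x = b ∨ x = a * b := by
  haveI : Fact (Nat.Prime 2) := ⟨Nat.prime_two⟩
  have hz : ∀ {y : G}, y * y = 1 → IsPGroup 2 (zpowers y) := fun {y} hy => by
    obtain ⟨k, -, hk⟩ := (Nat.dvd_prime_pow Nat.prime_two).mp
      (orderOf_dvd_of_pow_eq_one (n := 2 ^ 1) (x := y) (by rw [pow_one, pow_two, hy]))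
    exact IsPGroup.of_card (n := k) (by rw [Nat.card_zpowers, hk])
  have hn : ∀ {y : G} {K : Subgroup G}, K ≤ centralizer {y} → zpowers y ≤ normalizer (K : Set G) := fun {y K} h =>
    (zpowers_le.2 (mem_centralizer_iff.2 fun k hk => mem_centralizer_singleton_iff.1 (h hk))).trans
      (centralizer_le_normalizer _)
  obtain ⟨P, hP⟩ := ((hz hx).to_sup_of_normal_right' ((hz ha).to_sup_of_normal_right' (hz hb)
    (hn (zpowers_le.2 (mem_centralizer_singleton_iff.2 hc.symm.eq))))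
    (hn (sup_le (zpowers_le.2 (mem_centralizer_singleton_iff.2 hxa.symm.eq))
      (zpowers_le.2 (mem_centralizer_singleton_iff.2 hxb.symm.eq))))).exists_le_sylow
  obtain ⟨m, hm4, ⟨e⟩⟩ := hm.sylow P
  haveI : NeZero m := ⟨by omega⟩
  have hxP := hP (mem_sup_left (mem_zpowers x))
  have haP := hP (mem_sup_right (mem_sup_left (mem_zpowers a)))
  have hbP := hP (mem_sup_right (mem_sup_right (mem_zpowers b)))
  have h := cent_four (x := e ⟨x, hxP⟩) (a := e ⟨a, haP⟩) (b := e ⟨b, hbP⟩)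
    (by rw [← map_mul, ← map_one e]; exact congrArg e (Subtype.ext ha))
    (by rw [← map_mul, ← map_one e]; exact congrArg e (Subtype.ext hb))
    (fun h' => ha1 (congrArg Subtype.val (e.injective (h'.trans (map_one e).symm))))
    (fun h' => hb1 (congrArg Subtype.val (e.injective (h'.trans (map_one e).symm))))
    (fun h' => hab (congrArg Subtype.val (e.injective h')))
    (by rw [← map_mul, ← map_mul]; exact congrArg e (Subtype.ext hc.eq))
    (by rw [← map_mul, ← map_mul]; exact congrArg e (Subtype.ext hxa.eq))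
    (by rw [← map_mul, ← map_mul]; exact congrArg e (Subtype.ext hxb.eq))
  rw [← map_mul, MulEquiv.map_eq_one_iff, e.injective.eq_iff, e.injective.eq_iff, e.injective.eq_iff] at h
  rcases h with h' | h' | h' | h' <;> have h'' := congrArg Subtype.val h'
  exacts [Or.inl h'', Or.inr (Or.inl h''), Or.inr (Or.inr (Or.inl h'')), Or.inr (Or.inr (Or.inr h''))]

/-- A subgroup containing a four-group, with none rotated, is a 2-group modulo its odd core. -/
theorem nil_of (V : GW.Frame G) (hsp : SplitSpec V) {H : Subgroup G} (hH : H ≠ ⊤) (hU : V.U ≤ H)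
    (hno : ∀ V' : GW.Frame G, ¬ Rot V' H) : IsPGroup 2 (H ⧸ Cfsg.oddCore H) := by
  rcases hsp H hH hU (hno V) with h | ⟨V', K, hr, hKH, -⟩
  · exact h
  · exact absurd (hr.mono hKH) (hno V')

theorem mem_core_of_nil {H : Subgroup G} (hnil : IsPGroup 2 (H ⧸ Cfsg.oddCore H)) {x : G} (hx : x ∈ H)
    (ho : Odd (orderOf x)) : x ∈ Core H := by
  obtain ⟨k, hk⟩ := IsPGroup.iff_orderOf.1 hnil (QuotientGroup.mk' _ ⟨x, hx⟩)
  have h2 : orderOf (QuotientGroup.mk' (Cfsg.oddCore H) ⟨x, hx⟩) ∣ orderOf x :=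
    (orderOf_map_dvd _ _).trans (Subgroup.orderOf_mk x hx).dvd
  exact ⟨_, (QuotientGroup.eq_one_iff _).1 (orderOf_eq_one_iff.1 (Nat.eq_one_of_dvd_coprimes
    ((Nat.coprime_two_left.2 ho).pow_left k) hk.dvd h2)), rfl⟩

variable {F : GW.Frame G} {p : ℕ} {S : Subgroup G}

theorem SylData.ne_two (hd : SylData F p S) : p ≠ 2 := by
  rintro rfl
  haveI : Fact (Nat.Prime 2) := ⟨Nat.prime_two⟩
  have h2 : IsPGroup 2 (F.R 2) := (Cfsg.Lib.Components.isPGroup_pCore 2).map F.O.subtype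
  obtain ⟨k, hk⟩ := IsPGroup.iff_card.1 h2
  have hk0 : k ≠ 0 := fun e => hd.ne_bot (eq_bot_of_card_eq _ (by rw [hk, e, pow_zero]))
  exact Nat.not_even_iff_odd.2 (F.odd_card_O.of_dvd_nat (card_dvd_of_le (F.R_le 2)))
    (by rw [hk]; exact Nat.even_pow.2 ⟨even_two, hk0⟩)

theorem SylData.R_le_S (hd : SylData F p S) [Fact p.Prime] : F.R p ≤ S := by
  let P : Sylow p F.O := (hd.pgroup.comap_subtype (K := F.O)).toSylow hd.sylow
  rw [← map_subgroupOf_eq_of_le hd.le]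
  exact map_mono (Cfsg.Lib.Coprime.pCore_le_sylow p P)

theorem SylData.S_ne_bot (hd : SylData F p S) [Fact p.Prime] : S ≠ ⊥ :=
  fun e => hd.ne_bot (le_bot_iff.1 (e ▸ hd.R_le_S))

theorem SylData.t_mem_cent (hd : SylData F p S) : F.t ∈ centralizer (S : Set G) :=
  mem_centralizer_iff.2 fun _ hx => F.mem_C.1 (F.O_le (hd.le hx))

/-- With `C` maximal the centraliser of `S` is in `C`. -/
theorem SylData.cent_le (hm : Minimal G) (hmax : IsCoatom F.C) (hd : SylData F p S) [Fact p.Prime] :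
    centralizer (S : Set G) ≤ F.C := by
  have hCR : F.C ≤ normalizer (F.R p : Set G) := fun c hc =>
    Cfsg.Lib.OddP.le_normalizer_map_of_char (Cfsg.pCore p F.O) (F.C_le_normalizer_O hc)
  have hNR : normalizer (F.R p : Set G) = F.C := by
    rcases eq_or_lt_of_le hCR with h | h
    · exact h.symm
    · exact absurd (hmax.2 _ h)
        (not_normal_pgroup hm hd.ne_two ((Cfsg.Lib.Components.isPGroup_pCore p).map _) hd.ne_bot)
  exact ((centralizer_le (SetLike.coe_subset_coe.2 hd.R_le_S)).trans (centralizer_le_normalizer _)).trans hNR.le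

/-- A four-group inside `C` contains `t`. -/
theorem t_mem_of_le (hm : Minimal G) {V : GW.Frame G} (h : V.U ≤ F.C) : F.t ∈ V.U := by
  haveI : Fact (Nat.Prime 2) := ⟨Nat.prime_two⟩
  exact two_le_of_cent V hm (Q := zpowers F.t)
    (IsPGroup.of_card (n := 1) (by rw [Nat.card_zpowers, F.t_order, pow_one]))
    (zpowers_le.2 (mem_centralizer_iff.2 fun x hx => F.mem_C.1 (h hx))) (mem_zpowers _)

/-- A Sylow 2-subgroup of `G` inside `C` normalising `S`. -/
theorem SylData.exists_two_sylow (hm : Minimal G) (hd : SylData F p S) [Fact p.Prime] :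
    ∃ T : Sylow 2 G, (T : Subgroup G) ≤ F.C ∧ (T : Subgroup G) ≤ normalizer (S : Set G) := by
  haveI : Fact (Nat.Prime 2) := ⟨Nat.prime_two⟩
  obtain ⟨T, -, hTC⟩ := exists_sylow_t F hm (X := ⊥) IsPGroup.of_bot bot_le
  haveI : Group.IsNilpotent (T : Subgroup G) := T.2.isNilpotent
  obtain ⟨P, hP⟩ := Cfsg.Lib.Coprime.exists_invariant_sylow (hTC.trans F.C_le_normalizer_O)
    (show (Nat.card (T : Subgroup G)).Coprime (Nat.card F.O) by
      obtain ⟨k, hk⟩ := IsPGroup.iff_card.1 T.2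
      rw [hk]; exact Nat.Coprime.pow_left k (Nat.coprime_two_left.2 F.odd_card_O))
    (Or.inl inferInstance) p
  let P' : Sylow p F.O := (hd.pgroup.comap_subtype (K := F.O)).toSylow hd.sylow
  obtain ⟨c, hc⟩ := MulAction.exists_smul_eq F.O P P'
  have e : S = ((P : Subgroup F.O).map F.O.subtype).map (MulAut.conj (c : G)).toMonoidHom := by
    have h := congrArg (fun R : Sylow p F.O => (R : Subgroup F.O).map F.O.subtype) hc
    simp only [Cfsg.Lib.Coprime.map_subtype_smul,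
      show (P' : Subgroup F.O).map F.O.subtype = S from map_subgroupOf_eq_of_le hd.le] at h
    exact h.symm
  refine ⟨(c : G) • T, ?_, ?_⟩
  · rintro _ ⟨x, hx, rfl⟩
    exact mul_mem (mul_mem (F.O_le c.2) (hTC hx)) (inv_mem (F.O_le c.2))
  · rintro _ ⟨x, hx, rfl⟩
    rw [e]
    exact Subgroup.le_normalizer_map _ (mem_map_of_mem _ (hP hx))

/-- With every involution moving `S`, its normaliser lies in `C`. -/
theorem Full.normalizer_le (hm : Minimal G) (hmax : IsCoatom F.C) (hd : SylData F p S) [Fact p.Prime]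
    (hfull : Full F S) : normalizer (S : Set G) ≤ F.C := fun n hn => F.mem_C.2 (mul_inv_eq_iff_eq_mul.1 (by
  have hc : n * F.t * n⁻¹ ∈ centralizer (S : Set G) := mem_centralizer_iff.2 fun x hx => by
    have h := mem_centralizer_iff.1 hd.t_mem_cent _ ((mem_normalizer_iff''.1 hn x).1 hx)
    calc x * (n * F.t * n⁻¹) = n * (n⁻¹ * x * n * F.t) * n⁻¹ := by group
      _ = n * (F.t * (n⁻¹ * x * n)) * n⁻¹ := by rw [h]
      _ = n * F.t * n⁻¹ * x := by group
  by_contra hne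
  exact hfull _ (hd.cent_le hm hmax hc) ((MulEquiv.orderOf_eq (MulAut.conj n) F.t).trans F.t_order) hne
    fun x hx => mem_centralizer_singleton_iff.2 (mem_centralizer_iff.1 hc x hx)))

theorem Full.moved (hfull : Full F S) (V : GW.Frame G) : Moved F S V := by
  intro g hle hcen
  rw [← conjFrame_U] at hle hcen
  set V' := conjFrame g V
  by_cases h : V'.u = F.t
  · exact hfull _ (hle V'.t_mem_U) V'.t_order (fun e => V'.t_ne_u (e.trans h.symm))
      (hcen.trans (centralizer_le (Set.singleton_subset_iff.2 V'.t_mem_U)))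
  · exact hfull _ (hle V'.u_mem_U) V'.u_order h
      (hcen.trans (centralizer_le (Set.singleton_subset_iff.2 V'.u_mem_U)))

/-- For `p ≠ 3` an element of `p`-power order normalising `S` centralises `t`. -/
theorem SylData.commute_t (hm : Minimal G) (hmax : IsCoatom F.C) (hd : SylData F p S) [Fact p.Prime]
    (h3 : p ≠ 3) {q : G} (hq : q ∈ normalizer (S : Set G)) {k : ℕ} (hk : orderOf q = p ^ k) : q ∈ F.C := by
  have hodd : Odd (orderOf q) := by rw [hk]; exact ((Fact.out : p.Prime).odd_of_ne_two hd.ne_two).pow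
  refine F.mem_C.2 (mul_inv_eq_iff_eq_mul.1 ?_)
  set C' := centralizer (S : Set G)
  have hnC : ∀ x ∈ C', q * x * q⁻¹ ∈ C' := fun x hx => mem_centralizer_iff.2 fun y hy => by
    have h := mem_centralizer_iff.1 hx _ ((mem_normalizer_iff''.1 hq y).1 hy)
    calc y * (q * x * q⁻¹) = q * (q⁻¹ * y * q * x) * q⁻¹ := by group
      _ = q * (x * (q⁻¹ * y * q)) * q⁻¹ := by rw [h]
      _ = q * x * q⁻¹ * y := by group
  set t₁ := q * F.t * q⁻¹ with ht₁
  set t₂ := q * t₁ * q⁻¹ with ht₂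
  have h1 : t₁ ∈ C' := hnC _ hd.t_mem_cent
  have h2 : t₂ ∈ C' := hnC _ h1
  have hct : ∀ x ∈ C', Commute x F.t := fun x hx => F.mem_C.1 (hd.cent_le hm hmax hx)
  have hc1 : ∀ x ∈ C', Commute x t₁ := fun x hx => by
    have hx' : q⁻¹ * x * q ∈ C' := mem_centralizer_iff.2 fun y hy => by
      have h := mem_centralizer_iff.1 hx _ ((mem_normalizer_iff.1 hq y).1 hy)
      calc y * (q⁻¹ * x * q) = q⁻¹ * (q * y * q⁻¹ * x) * q := by group
        _ = q⁻¹ * (x * (q * y * q⁻¹)) * q := by rw [h]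
        _ = q⁻¹ * x * q * y := by group
    have h := (hct _ hx').map (MulAut.conj q).toMonoidHom
    simp only [MulEquiv.coe_toMonoidHom, MulAut.conj_apply] at h
    rwa [show q * (q⁻¹ * x * q) * q⁻¹ = x by group] at h
  by_contra hne
  have ht : F.t * F.t = 1 := F.t_sq
  have ht1 : t₁ * t₁ = 1 := by rw [ht₁, conj_mul, ht, mul_one, mul_inv_cancel]
  have ht2 : t₂ * t₂ = 1 := by rw [ht₂, conj_mul, ht1, mul_one, mul_inv_cancel]
  rcases four_closed hm ht ht1 ht2 F.t_ne_one (fun e => F.t_ne_one (conj_eq_one_iff.1 e)) (Ne.symm hne)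
      (hct _ h1).symm (hct _ h2) (hc1 _ h2) with e | e | e | e
  · exact F.t_ne_one (conj_eq_one_iff.1 (conj_eq_one_iff.1 e))
  · exact hne (mul_inv_eq_iff_eq_mul.2 (commute_of_sq' hodd
      (show q * q * F.t = F.t * (q * q) by
        rw [← mul_inv_eq_iff_eq_mul]
        calc q * q * F.t * (q * q)⁻¹ = q * (q * F.t * q⁻¹) * q⁻¹ := by group
          _ = F.t := e)).eq)
  · exact hne ((MulAut.conj q).injective e)
  · refine hne (mul_inv_eq_iff_eq_mul.2 ?_)
    have h3' : q * t₂ * q⁻¹ = F.t := by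
      rw [e, ← conj_mul, ← ht₁, ← ht₂, e, ← mul_assoc, (hct _ h1).eq, mul_assoc, ht1, mul_one]
    have hc3 : Commute (q ^ 3) F.t := by
      show q ^ 3 * F.t = F.t * q ^ 3
      rw [← mul_inv_eq_iff_eq_mul]
      calc q ^ 3 * F.t * (q ^ 3)⁻¹ = q * (q * (q * F.t * q⁻¹) * q⁻¹) * q⁻¹ := by
            rw [pow_succ, pow_two]; group
        _ = F.t := h3'
    obtain ⟨j, hj⟩ := exists_pow_eq_self_of_coprime (x := q) (n := 3) (by
      rw [hk]; exact ((Nat.coprime_primes Nat.prime_three Fact.out).2 (Ne.symm h3)).pow_right k)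
    rw [← hj]
    exact (hc3.pow_left j).eq

/-- `S` is a Sylow subgroup of `G`. -/
theorem SylData.exists_sylow_eq (hm : Minimal G) (hd : SylData F p S) [hp : Fact p.Prime]
    (h : ∀ q ∈ normalizer (S : Set G), ∀ k, orderOf q = p ^ k → q ∈ F.C) :
    ∃ P : Sylow p G, (P : Subgroup G) = S := by
  by_contra hno
  push Not at hno
  obtain ⟨q, hqn, hqS, hqp, k, hk⟩ := exists_grow hd.pgroup hno
  have ho : Odd (orderOf q) := by rw [hk]; exact (hp.out.odd_of_ne_two hd.ne_two).pow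
  exact hqS (mem_of_pgroup_sylow hd.le hd.pgroup hd.sylow ((mem_O F hm).2 ⟨F.mem_C.1 (h q hqn k hk), ho⟩) hqp)

/-- No four-group whose conjugates in `C` move `S` is rotated in the normaliser of a `ZJ`. -/
theorem noZJ_of_moved (hm : Minimal G) (hP : ∀ V : GW.Frame G, ProperSpec V) (hd : SylData F p S) [Fact p.Prime]
    {P : Sylow p G} (hPS : (P : Subgroup G) = S) {V₀ : GW.Frame G} (hmv : Moved F S V₀) : NoZJ V₀ p := by
  intro P' hr'
  haveI : Fact (Nat.Prime 2) := ⟨Nat.prime_two⟩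
  have hp2 := hd.ne_two
  obtain ⟨h, hh⟩ := MulAction.exists_smul_eq G P P'
  set N := normalizer (Cfsg.centerThompsonAOf S : Set G) with hN
  have hr1 : Rot (conjFrame h⁻¹ V₀) N := by
    refine hr'.conj h⁻¹ fun x hx => ?_
    rw [inv_inv]
    have e : Cfsg.centerThompsonAOf (P' : Subgroup G) =
        (Cfsg.centerThompsonAOf S).map (MulAut.conj h).toMonoidHom := by
      rw [Cfsg.Lib.ZJ.centerThompsonAOf_map_injOn (MulAut.conj h).injective.injOn, ← hh, ← hPS]
      rfl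
    rw [e] at hx
    refine mem_normalizer_iff.2 fun z => ?_
    have := mem_normalizer_iff.1 hx (h * z * h⁻¹)
    rw [mem_map_equiv, mem_map_equiv, MulAut.conj_symm_apply, MulAut.conj_symm_apply] at this
    convert this using 2 <;> group
  obtain ⟨T, hTC, hTS⟩ := hd.exists_two_sylow hm
  have hTN : (T : Subgroup G) ≤ N := hTS.trans (normalizer_le_zj S)
  obtain ⟨PV, hPV⟩ := ((conjFrame h⁻¹ V₀).isPGroup_U.comap_subtype (K := N)).exists_le_sylow
  obtain ⟨n, hn⟩ := MulAction.exists_smul_eq N PV (T.subtype hTN)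
  have hr2 : Rot (conjFrame (n : G) (conjFrame h⁻¹ V₀)) N :=
    hr1.conj _ fun x hx => mul_mem (mul_mem n.2 hx) (inv_mem n.2)
  set V₂ := conjFrame (n : G) (conjFrame h⁻¹ V₀) with hV₂
  have hV₂T : V₂.U ≤ (T : Subgroup G) := by
    rw [hV₂, conjFrame_U]
    rintro _ ⟨x, hx, rfl⟩
    have h1 : n * ⟨x, hr1.1 hx⟩ * n⁻¹ ∈ (T.subtype hTN : Subgroup N) := by
      rw [← hn]; exact ⟨_, hPV (mem_subgroupOf.2 hx), rfl⟩
    rw [Sylow.coe_subtype] at h1
    exact mem_subgroupOf.1 h1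
  obtain ⟨V, hVt, hVU, hrV⟩ := exists_frame_through hr2 (t_mem_of_le hm (hV₂T.trans hTC)) F.t_ne_one
  have hVO : V.O = F.O := by show Core (centralizer {V.t}) = Core (centralizer {F.t}); rw [hVt]
  have hVS : V.U ≤ normalizer (S : Set G) := hVU.le.trans (hV₂T.trans hTS)
  obtain ⟨x₀, hx₀, hmov⟩ : ∃ x ∈ S, V.u * x * V.u⁻¹ ≠ x := by
    by_contra hall
    push Not at hall
    have e : V₂.U = V₀.U.map (MulAut.conj ((n : G) * h⁻¹)).toMonoidHom := by
      rw [hV₂, conjFrame_U, conjFrame_U, Subgroup.map_map]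
      congr 1
      ext x; simp [mul_assoc]
    refine hmv ((n : G) * h⁻¹) (e ▸ hV₂T.trans hTC) ?_
    rw [← e, ← hVU]
    exact fun x hx => V.mem_centralizer_U.2 ⟨by rw [hVt]; exact F.mem_C.1 (F.O_le (hd.le hx)),
      (mul_inv_eq_iff_eq_mul.1 (hall x hx)).symm⟩
  have hSp := hd.pgroup
  have hSN : S ≤ N := le_normalizer.trans (normalizer_le_zj S)
  have hZle : Cfsg.centerThompsonAOf S ≤ S :=
    (inf_le_left : Cfsg.centerThompsonAOf S ≤ Cfsg.thompsonSubgroupAOf S).trans (map_subtype_le _)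
  have hNtop : N ≠ ⊤ := not_normal_pgroup hm hp2 (hSp.to_le hZle)
    (Cfsg.Lib.ZJ.centerThompsonAOf_ne_bot hSp hd.S_ne_bot)
  have hfix : S ⊓ Core N ≤ centralizer (V.U : Set G) := by
    rw [inf_comm]
    refine sylow_le_centralizer V hrV (le_normalizer_core N) (odd_card_core N) inf_le_left
      (hSp.to_le inf_le_right) ?_ (Cfsg.Lib.Coprime.le_normalizer_inf (hrV.1.trans (le_normalizer_core N)) hVS)
      V.t_mem_U V.t_ne_one fun x hx => mem_centralizer_singleton_iff.2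
        (by rw [hVt]; exact F.mem_C.1 (F.O_le (hd.le (mem_inf.1 hx).2)))
    rw [← hPS]
    exact not_dvd_relIndex_inf P (by rw [hPS]; exact hSN.trans (le_normalizer_core N))
  obtain ⟨a, T', Q, hT⟩ := (hP V).top N hNtop hrV
  obtain ⟨g, hgS, hgu, hall, hgn, hgc⟩ := V.inverted_cyclic_of hrV.1 (fun K h1 h2 => (hT.torus K h1 h2).2)
    hT.inverted_comm hSN (hVO.symm ▸ hd.le) hVS hfix
  have hg1 : g ≠ 1 := by
    obtain ⟨a', ha, b, hb, hau, hbu, rfl⟩ :=
      GW.Frame.exists_fixed_mul_inverted (F.odd_card_O.of_dvd_nat (card_dvd_of_le hd.le)) V.u_sq (hVS V.u_mem_U) hx₀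
    intro e
    have hb1 := hall b hb hbu
    rw [e, zpowers_one_eq_bot, mem_bot] at hb1
    exact hmov (by rw [hb1, mul_one]; exact hau)
  haveI : ((zpowers g).subgroupOf S).Normal :=
    normal_subgroupOf_iff_le_normalizer (zpowers_le.2 hgS) |>.2 hgn
  obtain ⟨w, hw, hwc, hwo⟩ := Cfsg.Lib.PGroups.exists_mem_center_of_normal_ne_bot hSp
    (N := (zpowers g).subgroupOf S) fun e => hg1 (by
      have h1 : (⟨g, hgS⟩ : S) ∈ (zpowers g).subgroupOf S := mem_subgroupOf.2 (mem_zpowers g)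
      rw [e, mem_bot] at h1
      exact congrArg Subtype.val h1)
  have hwZ : (w : G) ∈ Cfsg.centerThompsonAOf S := mem_zj_of_central w.2 fun x hx =>
    congrArg Subtype.val (mem_center_iff.1 hwc ⟨x, hx⟩)
  have hwcore : (w : G) ∈ Core N := le_core le_normalizer le_rfl (odd_of_pgroup hp2 (hSp.to_le hZle)) hwZ
  have h1 : (w : G) = 1 := mem_bot.1 (hgc ▸ mem_inf.2 ⟨mem_subgroupOf.1 hw, hwcore⟩)
  have h2 : orderOf (w : G) = p := by rw [Subgroup.orderOf_coe, hwo]
  rw [h1, orderOf_one] at h2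
  exact hd.prime.ne_one h2.symm

/-- When `S` is a Sylow subgroup of `G`, every four-group centralises what it normalises in a core it rotates. -/
theorem coreFixed_all (hm : Minimal G) (hd : SylData F p S) [Fact p.Prime] (hP : ∀ V : GW.Frame G, V.OddSpec)
    {P : Sylow p G} (hPS : (P : Subgroup G) = S) (V : GW.Frame G) : CoreFixed V p := by
  refine coreFixed_of_involution V hm (hP V) hd.ne_two fun Q => ?_
  obtain ⟨g, hg⟩ := MulAction.exists_smul_eq G P Q
  refine ⟨g * F.t * g⁻¹, (MulEquiv.orderOf_eq (MulAut.conj g) F.t).trans F.t_order, ?_⟩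
  rw [← hg]
  rintro _ ⟨x, hx, rfl⟩
  rw [hPS] at hx
  refine mem_centralizer_singleton_iff.2 ?_
  show g * x * g⁻¹ * (g * F.t * g⁻¹) = g * F.t * g⁻¹ * (g * x * g⁻¹)
  rw [conj_mul, conj_mul, F.mem_C.1 (F.O_le (hd.le hx))]

/-- Every invariant `p`-subgroup is centralised by an involution of the four-group. -/
theorem cent_inv_of (hm : Minimal G) (hd : SylData F p S) [hp : Fact p.Prime] (hsp : SplitSpec F)
    {P : Sylow p G} (hPS : (P : Subgroup G) = S) (hcore : ∀ V : GW.Frame G, CoreFixed V p)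
    {X : Subgroup G} (hXp : IsPGroup p X) (hXU : F.U ≤ normalizer (X : Set G)) :
    ∃ s ∈ F.U, s ≠ 1 ∧ X ≤ centralizer {s} := by
  haveI : Fact (Nat.Prime 2) := ⟨Nat.prime_two⟩
  have hp2 := hd.ne_two
  by_cases hX1 : X = ⊥
  · exact ⟨F.t, F.t_mem_U, F.t_ne_one, hX1 ▸ bot_le⟩
  obtain ⟨Y, hXY, hmaxY⟩ := Finite.exists_le_maximal
    (p := fun Y : Subgroup G => IsPGroup p Y ∧ F.U ≤ normalizer (Y : Set G)) ⟨hXp, hXU⟩
  obtain ⟨hYp, hYU⟩ := hmaxY.1
  have hYne : Y ≠ ⊥ := fun e => hX1 (le_bot_iff.1 (e ▸ hXY))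
  set N := normalizer (Y : Set G) with hN
  have hNtop : N ≠ ⊤ := not_normal_pgroup hm hp2 hYp hYne
  have hYcore : Y ≤ Core N := le_core le_normalizer le_rfl (odd_of_pgroup hp2 hYp)
  by_cases hrot : ∃ V : GW.Frame G, Rot V N
  · obtain ⟨V, hV⟩ := hrot
    obtain ⟨TU, hTU⟩ := (F.isPGroup_U.comap_subtype (K := N)).exists_le_sylow
    obtain ⟨TV, hTV⟩ := (V.isPGroup_U.comap_subtype (K := N)).exists_le_sylow
    obtain ⟨n, hn⟩ := MulAction.exists_smul_eq N TV TU
    set Tg := (TU : Subgroup N).map N.subtype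
    have hUT : F.U ≤ Tg := fun x hx => ⟨⟨x, hYU hx⟩, hTU (mem_subgroupOf.2 hx), rfl⟩
    obtain ⟨s, hsU, hs1, -, hsT⟩ := exists_central F hm (TU.2.map _) hUT (N := ⊤) (fun e => by
      have hmem : (⟨F.t, hUT F.t_mem_U⟩ : Tg) ∈ (⊥ : Subgroup Tg) := e ▸ mem_top _
      exact F.t_ne_one (congrArg Subtype.val (mem_bot.1 hmem)))
    have hV' := hV.conj (K := N) (n : G) fun x hx => mul_mem (mul_mem n.2 hx) (inv_mem n.2)
    set V' := conjFrame (n : G) V with hV'def
    have hV'T : V'.U ≤ Tg := by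
      rw [hV'def, conjFrame_U]
      rintro _ ⟨x, hx, rfl⟩
      exact ⟨n * ⟨x, hV.1 hx⟩ * n⁻¹, by rw [← hn]; exact ⟨_, hTV (mem_subgroupOf.2 hx), rfl⟩, rfl⟩
    have hcen := hcore V' N hNtop hV' Y hYp hYcore hV'.1
    have hs2 : orderOf s = 2 := by
      rcases F.mem_U.1 hsU with rfl | rfl | rfl | rfl
      exacts [absurd rfl hs1, F.t_order, F.u_order, F.v_order]
    have hsV : s ∈ V'.U := two_le_of_cent V' hm (Q := zpowers s)
      (IsPGroup.of_card (n := 1) (by rw [Nat.card_zpowers, hs2, pow_one]))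
      (zpowers_le.2 (mem_centralizer_iff.2 fun x hx => mem_centralizer_singleton_iff.1 (hsT (hV'T hx))))
      (mem_zpowers s)
    exact ⟨s, hsU, hs1, (hXY.trans hcen).trans (centralizer_le (Set.singleton_subset_iff.2 hsV))⟩
  push Not at hrot
  have hnil := nil_of F hsp hNtop hYU hrot
  obtain ⟨Y', hYY', hY'K, hY'p, hY's, hY'U⟩ :=
    F.exists_sylow_over (odd_card_core N) (hYU.trans (le_normalizer_core N)) hYcore hYp hYU
  have hYs : ¬ p ∣ Y.relIndex (Core N) := by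
    rwa [show Y = Y' from le_antisymm hYY' (hmaxY.2 ⟨hY'p, hY'U⟩ hYY')]
  obtain ⟨Q, hQ⟩ : ∃ Q : Sylow p G, (Q : Subgroup G) = Y := by
    by_contra hno
    push Not at hno
    obtain ⟨q, hqn, hqY, hqp, k, hk⟩ := exists_grow hYp hno
    exact hqY (mem_of_pgroup_sylow hYcore hYp hYs (mem_core_of_nil hnil hqn
      (by rw [hk]; exact (hp.out.odd_of_ne_two hp2).pow)) hqp)
  obtain ⟨g, hg⟩ := MulAction.exists_smul_eq G P Q
  have hYg : Y = S.map (MulAut.conj g).toMonoidHom := by rw [← hQ, ← hg, ← hPS]; rfl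
  set V₁ := conjFrame g⁻¹ F with hV₁def
  have hV₁ : V₁.U ≤ normalizer (S : Set G) := by
    rw [hV₁def, conjFrame_U]
    rintro _ ⟨x, hx, rfl⟩
    have h1 := hYU hx
    rw [hN, hYg] at h1
    refine mem_normalizer_iff.2 fun z => ?_
    have := mem_normalizer_iff.1 h1 (g * z * g⁻¹)
    rw [mem_map_equiv, mem_map_equiv, MulAut.conj_symm_apply, MulAut.conj_symm_apply] at this
    simp only [MulEquiv.coe_toMonoidHom, MulAut.conj_apply]
    convert this using 2 <;> group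
  obtain ⟨T, hTC, hTS⟩ := hd.exists_two_sylow hm
  obtain ⟨P₁, hP₁⟩ := (V₁.isPGroup_U.comap_subtype (K := normalizer (S : Set G))).exists_le_sylow
  obtain ⟨k, hk⟩ := MulAction.exists_smul_eq ↥(normalizer (S : Set G)) P₁ (T.subtype hTS)
  set V₂ := conjFrame (k : G) V₁ with hV₂def
  have hV₂ : V₂.U ≤ F.C := by
    rw [hV₂def, conjFrame_U]
    rintro _ ⟨x, hx, rfl⟩
    have h1 : k * ⟨x, hV₁ hx⟩ * k⁻¹ ∈ (T.subtype hTS : Subgroup ↥(normalizer (S : Set G))) := by
      rw [← hk]; exact ⟨_, hP₁ (mem_subgroupOf.2 hx), rfl⟩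
    rw [Sylow.coe_subtype] at h1
    exact hTC (mem_subgroupOf.1 h1)
  have htV := t_mem_of_le hm hV₂
  rw [hV₂def, conjFrame_U, hV₁def, conjFrame_U] at htV
  obtain ⟨_, ⟨s, hs, rfl⟩, hst⟩ := htV
  simp only [MulEquiv.coe_toMonoidHom, MulAut.conj_apply, inv_inv] at hst
  refine ⟨s, hs, fun e => F.t_ne_one (by rw [← hst, e]; group), fun x hx => ?_⟩
  obtain ⟨y, hy, rfl⟩ := (hYg ▸ hXY hx : x ∈ S.map (MulAut.conj g).toMonoidHom)
  refine mem_centralizer_singleton_iff.2 ?_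
  have hky : (k : G) * y * (k : G)⁻¹ ∈ S := (mem_normalizer_iff.1 k.2 y).1 hy
  have h1 := F.mem_C.1 (F.O_le (hd.le hky))
  simp only [MulEquiv.coe_toMonoidHom, MulAut.conj_apply]
  have h2 : (k : G) * y * (k : G)⁻¹ * ((k : G) * (g⁻¹ * s * g) * (k : G)⁻¹) =
      (k : G) * (g⁻¹ * s * g) * (k : G)⁻¹ * ((k : G) * y * (k : G)⁻¹) := by rw [hst]; exact h1
  calc g * y * g⁻¹ * s = g * (k : G)⁻¹ *
        ((k : G) * y * (k : G)⁻¹ * ((k : G) * (g⁻¹ * s * g) * (k : G)⁻¹)) * (k : G) * g⁻¹ := by group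
    _ = g * (k : G)⁻¹ *
        ((k : G) * (g⁻¹ * s * g) * (k : G)⁻¹ * ((k : G) * y * (k : G)⁻¹)) * (k : G) * g⁻¹ := by rw [h2]
    _ = s * (g * y * g⁻¹) := by group

/-- For `p ≠ 3`: `S` is a Sylow subgroup, `Lc` holds for every four-group, and every invariant `p`-subgroup is
centralised by an involution of the four-group. -/
theorem local_any (hm : Minimal G) (hmax : IsCoatom F.C) (hP : ∀ V : GW.Frame G, ProperSpec V)
    (hd : SylData F p S) (h3 : p ≠ 3) :
    (∃ P : Sylow p G, (P : Subgroup G) = S) ∧ (∀ V : GW.Frame G, CoreFixed V p) ∧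
      ∀ X : Subgroup G, IsPGroup p X → F.U ≤ normalizer (X : Set G) →
        ∃ s ∈ F.U, s ≠ 1 ∧ X ≤ centralizer {s} := by
  haveI : Fact p.Prime := ⟨hd.prime⟩
  obtain ⟨P, hPS⟩ := hd.exists_sylow_eq hm fun q hq _ hk => hd.commute_t hm hmax h3 hq hk
  have hcore := coreFixed_all hm hd (fun V => (hP V).odd) hPS
  exact ⟨⟨P, hPS⟩, hcore, fun X hX hXU => cent_inv_of hm hd (hP F).split hPS hcore hX hXU⟩

/-- THE LOCAL FACTS at a full prime. -/
theorem local_full (hm : Minimal G) (hmax : IsCoatom F.C) (hP : ∀ V : GW.Frame G, ProperSpec V)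
    (hd : SylData F p S) (hfull : Full F S) (hSU : F.U ≤ normalizer (S : Set G)) : LocalSpec F p S := by
  haveI : Fact p.Prime := ⟨hd.prime⟩
  haveI : Fact (Nat.Prime 2) := ⟨Nat.prime_two⟩
  have hp2 := hd.ne_two
  have hSp := hd.pgroup
  obtain ⟨P, hPS⟩ := hd.exists_sylow_eq hm fun q hq _ _ => hfull.normalizer_le hm hmax hd hq
  have hyp : ∀ V : GW.Frame G, NoZJ V p := fun V => noZJ_of_moved hm hP hd hPS (hfull.moved V)
  have hcore : ∀ V : GW.Frame G, CoreFixed V p := coreFixed_all hm hd (fun V => (hP V).odd) hPS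
  have hUcA : ∀ A : Subgroup G, A ≤ F.W → F.U ≤ centralizer (A : Set G) := fun A hA =>
    le_centralizer_iff.1 (hA.trans F.W_le_centralizer_U)
  have hfus : ∀ A : Subgroup G, A ≤ F.W → IsPGroup p A → A ≠ ⊥ → Rot F (centralizer (A : Set G)) := by
    have hinto : ∀ A : Subgroup G, A ≤ F.W → IsPGroup p A → ∃ c ∈ F.W, ∀ a ∈ A, c * a * c⁻¹ ∈ S := by
      intro A hA hAp
      have hUA : F.U ≤ normalizer (A : Set G) := (hUcA A hA).trans (centralizer_le_normalizer _)
      obtain ⟨Q, hAQ, hQO, hQp, hQs, hQU⟩ :=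
        F.exists_sylow_over F.odd_card_O F.U_le_normalizer_O (hA.trans F.W_le) hAp hUA
      obtain ⟨c, hcO, hcU, hc⟩ :=
        F.conj_sylow F.odd_card_O F.U_le_normalizer_O hQO hQp hQs hQU hd.le hSp hd.sylow hSU
      exact ⟨c, F.mem_W.2 ⟨hcO, (F.mem_centralizer_U.1 hcU).2⟩, fun a ha => hc ▸ ⟨a, hAQ ha, rfl⟩⟩
    set N := normalizer (Cfsg.centerThompsonAOf S : Set G) with hNdef
    have hUN : F.U ≤ N := hSU.trans (normalizer_le_zj S)
    have hNtop : N ≠ ⊤ := not_normal_pgroup hm hp2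
      (hSp.to_le ((inf_le_left : Cfsg.centerThompsonAOf S ≤ Cfsg.thompsonSubgroupAOf S).trans (map_subtype_le _)))
      (Cfsg.Lib.ZJ.centerThompsonAOf_ne_bot hSp hd.S_ne_bot)
    have hnil := nil_of F (hP F).split hNtop hUN fun V => by
      have := hyp V P
      rwa [hPS] at this
    obtain ⟨T, hTC, hTS⟩ := hd.exists_two_sylow hm
    have hTN : (T : Subgroup G) ≤ N := hTS.trans (normalizer_le_zj S)
    -- `t` is central modulo the odd core
    have hcen : ∀ n ∈ N, n * F.t * n⁻¹ * F.t ∈ Core N := by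
      intro n hn
      set π := QuotientGroup.mk' (Cfsg.oddCore N)
      set T' : Sylow 2 N := T.subtype hTN
      have htop := ((T'.mapSurjective (QuotientGroup.mk'_surjective (Cfsg.oddCore N))).3
          (hnil.of_equiv Subgroup.topEquiv.symm) le_top)
      obtain ⟨y, hy, hye⟩ : π ⟨n, hn⟩ ∈ (T' : Subgroup N).map π := htop.le (mem_top (π ⟨n, hn⟩))
      have hyc : (y : G) * F.t = F.t * y := F.mem_C.1 (hTC (by
        rw [Sylow.coe_subtype] at hy; exact mem_subgroupOf.1 hy))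
      have ht : F.t ∈ N := hUN F.t_mem_U
      have h1 : π (⟨n, hn⟩ * ⟨F.t, ht⟩ * ⟨n, hn⟩⁻¹ * ⟨F.t, ht⟩) = 1 := by
        simp only [map_mul, map_inv, ← hye]
        simp only [← map_inv, ← map_mul]
        rw [show y * ⟨F.t, ht⟩ * y⁻¹ * ⟨F.t, ht⟩ = (1 : N) from Subtype.ext (by
          show (y : G) * F.t * (y : G)⁻¹ * F.t = 1
          rw [hyc, mul_inv_cancel_right, F.t_sq]), map_one]
      exact ⟨_, (QuotientGroup.eq_one_iff _).1 h1, rfl⟩
    intro A hA hAp hAne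
    obtain ⟨c, hc, hcS⟩ := hinto A hA hAp
    set A' := A.map (MulAut.conj c).toMonoidHom with hA'def
    have hA'W : A' ≤ F.W := by
      rintro _ ⟨a, ha, rfl⟩
      exact mul_mem (mul_mem hc (hA ha)) (inv_mem hc)
    have hA'S : (A' : Set G) ⊆ (P : Subgroup G) := by
      rintro _ ⟨a, ha, rfl⟩
      rw [hPS]; exact hcS a ha
    have step : ∀ τ ∈ normalizer (F.W : Set G),
        ∃ c' ∈ centralizer (A' : Set G), c' * F.t * c'⁻¹ = τ⁻¹ * F.t * τ := by
      intro τ hτ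
      have hτW : A'.map (MulAut.conj τ).toMonoidHom ≤ F.W := by
        rintro _ ⟨a, ha, rfl⟩
        exact (mem_normalizer_iff.1 hτ a).1 (hA'W ha)
      obtain ⟨d, hd', hdS⟩ := hinto _ hτW ((hAp.map _).map _)
      obtain ⟨n, hn, hna⟩ := Cfsg.Lib.GW.zj_fusion_of_qd hp2 (qdFree hm.dc hp2) P hA'S (g := d * τ) (fun a ha => by
        rw [hPS, show d * τ * a * (d * τ)⁻¹ = d * (τ * a * τ⁻¹) * d⁻¹ by group]
        exact hdS _ ⟨a, ha, rfl⟩)
      rw [hPS] at hn
      set w := n * F.t * n⁻¹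
      have hw2 : orderOf w = 2 := (MulEquiv.orderOf_eq (MulAut.conj n) F.t).trans F.t_order
      obtain ⟨e, he, hew⟩ := Cfsg.Lib.InvolCalc.conj_of_odd hw2 F.t_order
        (GW.Frame.odd_orderOf (odd_card_core N) (hcen n hn))
      set A'' := A'.map (MulAut.conj n).toMonoidHom with hA''
      have hA''W : A'' ≤ F.W := by
        rintro _ ⟨a, ha, rfl⟩
        rw [show (MulAut.conj n).toMonoidHom a = n * a * n⁻¹ from rfl, hna a ha,
          show d * τ * a * (d * τ)⁻¹ = d * (τ * a * τ⁻¹) * d⁻¹ by group]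
        exact mul_mem (mul_mem hd' (hτW ⟨a, ha, rfl⟩)) (inv_mem hd')
      have heA : e ∈ centralizer (A'' : Set G) := by
        refine (closure_le _).2 (Set.insert_subset ?_ (Set.singleton_subset_iff.2 ?_)) he
        · refine mem_centralizer_iff.2 ?_
          rintro _ ⟨a, ha, rfl⟩
          show n * a * n⁻¹ * (n * F.t * n⁻¹) = n * F.t * n⁻¹ * (n * a * n⁻¹)
          rw [conj_mul, conj_mul, mem_centralizer_iff.1 (hUcA A' hA'W F.t_mem_U) a ha]
        · exact hUcA A'' hA''W F.t_mem_U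
      set c₀ := (e * n)⁻¹ * (d * τ) with hc₀
      have hc₀A : c₀ ∈ centralizer (A' : Set G) := mem_centralizer_iff.2 fun a ha => by
        have h1 := hna a ha
        have h2 : n * a * n⁻¹ * e = e * (n * a * n⁻¹) :=
          mem_centralizer_iff.1 heA _ ⟨a, ha, rfl⟩
        calc a * c₀ = n⁻¹ * (n * a * n⁻¹ * e) * e⁻¹ * e⁻¹ * (d * τ) := by rw [hc₀]; group
          _ = n⁻¹ * (e * (n * a * n⁻¹)) * e⁻¹ * e⁻¹ * (d * τ) := by rw [h2]
          _ = _ := by
            rw [show n⁻¹ * (e * (n * a * n⁻¹)) * e⁻¹ * e⁻¹ * (d * τ) =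
              n⁻¹ * e * (n * a * n⁻¹ * e⁻¹) * e⁻¹ * (d * τ) by group,
              show n * a * n⁻¹ * e⁻¹ = e⁻¹ * (n * a * n⁻¹) by
                rw [eq_inv_mul_iff_mul_eq, ← mul_assoc, ← h2, mul_inv_cancel_right],
              show n⁻¹ * e * (e⁻¹ * (n * a * n⁻¹)) * e⁻¹ * (d * τ) =
                n⁻¹ * (n * a * n⁻¹ * e⁻¹) * (d * τ) by group,
              show n * a * n⁻¹ * e⁻¹ = e⁻¹ * (n * a * n⁻¹) by
                rw [eq_inv_mul_iff_mul_eq, ← mul_assoc, ← h2, mul_inv_cancel_right], h1, hc₀]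
            group
      refine ⟨c₀⁻¹, inv_mem hc₀A, ?_⟩
      have hdt : d⁻¹ * F.t * d = F.t := by
        rw [mul_assoc, (F.mem_centralizer_U.1 (F.W_le_centralizer_U hd')).1.symm, inv_mul_cancel_left]
      calc c₀⁻¹ * F.t * c₀⁻¹⁻¹ = τ⁻¹ * d⁻¹ * (e * (n * F.t * n⁻¹) * e⁻¹) * (d * τ) := by
            rw [hc₀, inv_inv, mul_inv_rev, inv_inv, mul_inv_rev]
            group
        _ = τ⁻¹ * (d⁻¹ * F.t * d) * τ := by rw [hew]; group
        _ = τ⁻¹ * F.t * τ := by rw [hdt]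
    have hσ := σ_mem_normalizer_W F hm
    have e1 : F.σ⁻¹ * F.t * F.σ = F.t * F.u := by
      rw [show F.σ⁻¹ * F.t * F.σ = F.σ⁻¹ * (F.σ * (F.t * F.u) * F.σ⁻¹) * F.σ by rw [F.σ_v]]; group
    have e2 : (F.σ * F.σ)⁻¹ * F.t * (F.σ * F.σ) = F.u := by
      rw [show (F.σ * F.σ)⁻¹ * F.t * (F.σ * F.σ) = F.σ⁻¹ * (F.σ⁻¹ * F.t * F.σ) * F.σ by group, e1, ← F.σ_u]
      group
    obtain ⟨g₁, hg₁, h₁⟩ := step _ (mul_mem hσ hσ)
    obtain ⟨g₂, hg₂, h₂⟩ := step _ hσ
    obtain ⟨g, hg, -, hgt, hgu, -⟩ := exists_rot F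
      (rot_of_conj F hm (hUcA A' hA'W) hg₁ (h₁.trans e2) hg₂ (h₂.trans e1))
    have hcU := F.mem_centralizer_U.1 (F.W_le_centralizer_U hc)
    refine ⟨hUcA A hA, c⁻¹ * g * c, mem_centralizer_iff.2 fun a ha => ?_, ?_, ?_⟩
    · have h1 := mem_centralizer_iff.1 hg (c * a * c⁻¹) ⟨a, ha, rfl⟩
      calc a * (c⁻¹ * g * c) = c⁻¹ * (c * a * c⁻¹ * g) * c := by group
        _ = c⁻¹ * (g * (c * a * c⁻¹)) * c := by rw [h1]
        _ = c⁻¹ * g * c * a := by group
    · rw [show c⁻¹ * g * c * F.t * (c⁻¹ * g * c)⁻¹ = c⁻¹ * (g * (c * F.t * c⁻¹) * g⁻¹) * c by group,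
        mul_inv_eq_iff_eq_mul.2 hcU.1, hgt, mul_assoc, ← hcU.2, inv_mul_cancel_left]
    · rw [show c⁻¹ * g * c * F.u * (c⁻¹ * g * c)⁻¹ = c⁻¹ * (g * (c * F.u * c⁻¹) * g⁻¹) * c by group,
        mul_inv_eq_iff_eq_mul.2 hcU.2, hgu, mul_assoc,
        ← ((show Commute c F.t from hcU.1).mul_right hcU.2).eq, inv_mul_cancel_left]
  refine ⟨⟨P, hPS⟩, fun X hXp hXU => cent_inv_of hm hd (hP F).split hPS hcore hXp hXU, hcore F, hfus,
    fun A hAW hAS hAne => ?_⟩
  have hAp : IsPGroup p A := hSp.to_le hAS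
  have hHtop : centralizer (A : Set G) ≠ ⊤ := fun e => not_normal_pgroup hm hp2 hAp hAne
    (top_le_iff.1 (e ▸ centralizer_le_normalizer _))
  have hUA := hUcA A hAW
  have hr := hfus A hAW hAp hAne
  obtain ⟨a, T, Q, hT⟩ := (hP F).top _ hHtop hr
  obtain ⟨g, hg, hgu, hall, -, -⟩ := F.inverted_cyclic_of hr.1 (fun K h1 h2 => (hT.torus K h1 h2).2)
    hT.inverted_comm (X := S ⊓ centralizer (A : Set G)) inf_le_right (inf_le_left.trans hd.le)
    (Cfsg.Lib.Coprime.le_normalizer_inf hSU (hUA.trans le_normalizer))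
    (hcore F _ hHtop hr _ (hSp.to_le (inf_le_left.trans inf_le_left)) inf_le_right
      (Cfsg.Lib.Coprime.le_normalizer_inf (Cfsg.Lib.Coprime.le_normalizer_inf hSU (hUA.trans le_normalizer))
        (hUA.trans (le_normalizer_core _))))
  exact ⟨g, hg, hgu, hall⟩

end Cfsg.Lib.GWD
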