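import Cfsg.Agent.GWDihedral.Shell.Reduce
import Cfsg.Agent.FourGroupGW.Local
import Cfsg.Agent.S0107
import Cfsg.Agent.S0514
import Cfsg.Agent.S1256

/-!
GW dihedral, local tools: four-groups in dihedral 2-groups, freeness from `Qd(p)`, the centraliser of an
involution.
-/

set_option autoImplicit false
set_option linter.unusedSectionVars false
set_option linter.style.haveILetI false

namespace Cfsg.Lib.GWD

open Subgroup DihedralGroup
open Cfsg.Lib.GenDihedral (mul_self_of_two mem_of_sq)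
open Cfsg.Lib.GW (Core)

universe u

section Dihedral

variable {m : ℕ} [NeZero m]

theorem rot_unique {i j : ZMod m} (hi : i + i = 0) (hj : j + j = 0) (hi0 : i ≠ 0) (hj0 : j ≠ 0) : i = j :=
  ((Cfsg.Agent.S1256.two_torsion hi).resolve_left hi0).trans
    ((Cfsg.Agent.S1256.two_torsion hj).resolve_left hj0).symm

/-- What commutes with a reflection. -/
theorem comm_sr {i : ZMod m} {x : DihedralGroup m} (h : x * sr i = sr i * x) :
    ∃ k : ZMod m, k + k = 0 ∧ (x = r k ∨ x = sr (i + k)) := by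
  cases x with
  | r k =>
    rw [r_mul_sr, sr_mul_r, sr.injEq, sub_eq_iff_eq_add] at h
    exact ⟨k, add_left_cancel (a := i) (by rw [add_zero, ← add_assoc]; exact h.symm), Or.inl rfl⟩
  | sr j =>
    rw [sr_mul_sr, sr_mul_sr, r.injEq] at h
    refine ⟨j - i, ?_, Or.inr (by rw [add_sub_cancel])⟩
    nth_rewrite 1 [← h]
    exact sub_add_sub_cancel i j i |>.trans (sub_self i)

/-- A four-group of a dihedral group is its own centraliser. -/
theorem cent_four {a b x : DihedralGroup m} (ha : a * a = 1) (hb : b * b = 1) (ha1 : a ≠ 1) (hb1 : b ≠ 1)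
    (hab : a ≠ b) (hc : a * b = b * a) (hxa : x * a = a * x) (hxb : x * b = b * x) :
    x = 1 ∨ x = a ∨ x = b ∨ x = a * b := by
  have hrot : ∀ k : ZMod m, (r k : DihedralGroup m) * r k = 1 → k + k = 0 := fun k hk => by
    rw [r_mul_r, ← r_zero, r.injEq] at hk; exact hk
  have main : ∀ {a b : DihedralGroup m} (i : ZMod m), a = sr i → b ≠ 1 → a ≠ b → b * a = a * b → x * a = a * x →
      x = 1 ∨ x = a ∨ x = b ∨ x = a * b := by
    rintro a b i rfl hb1 hab hc hxa
    obtain ⟨k, hk, hkb⟩ := comm_sr hc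
    obtain ⟨l, hl, hlx⟩ := comm_sr hxa
    have hk0 : k ≠ 0 := fun e => by
      subst e
      rcases hkb with rfl | rfl
      · exact hb1 r_zero
      · exact hab (by rw [add_zero])
    by_cases hl0 : l = 0
    · subst hl0
      rcases hlx with rfl | rfl
      · exact Or.inl r_zero
      · exact Or.inr (Or.inl (by rw [add_zero]))
    rw [rot_unique hl hk hl0 hk0] at hlx
    rcases hkb with rfl | rfl <;> rcases hlx with rfl | rfl
    · exact Or.inr (Or.inr (Or.inl rfl))
    · exact Or.inr (Or.inr (Or.inr (by rw [sr_mul_r])))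
    · exact Or.inr (Or.inr (Or.inr (by rw [sr_mul_sr, add_sub_cancel_left])))
    · exact Or.inr (Or.inr (Or.inl rfl))
  cases a with
  | sr i => exact main i rfl hb1 hab hc.symm hxa
  | r i =>
    cases b with
    | sr j =>
      rcases main j rfl ha1 hab.symm hc hxb with h | h | h | h
      exacts [Or.inl h, Or.inr (Or.inr (Or.inl h)), Or.inr (Or.inl h),
        Or.inr (Or.inr (Or.inr (h.trans hc.symm)))]
    | r j =>
      refine absurd ?_ hab
      rw [rot_unique (hrot i ha) (hrot j hb) (fun e => ha1 (by rw [e, r_zero]))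
        (fun e => hb1 (by rw [e, r_zero]))]

/-- No quaternion relations in a dihedral group. -/
theorem no_quat {w x : DihedralGroup m} (hw : w * w ≠ 1) (hx : x * w * x⁻¹ = w⁻¹) : x * x ≠ w * w := by
  cases w with
  | sr i => exact absurd (sr_mul_self i) hw
  | r i =>
    cases x with
    | sr j => rw [sr_mul_self]; exact fun e => hw e.symm
    | r j =>
      refine absurd ?_ hw
      rw [inv_r, inv_r, r_mul_r, r_mul_r, r.injEq, add_neg_cancel_comm] at hx
      rw [r_mul_r, ← r_zero, r.injEq]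
      exact eq_neg_iff_add_eq_zero.1 hx

end Dihedral

/-- The Sylow 2-subgroups are cyclic or dihedral. -/
def DCTwo (X : Type u) [Group X] : Prop :=
  ∀ S : Sylow 2 X, IsCyclic (S : Subgroup X) ∨
    ∃ d, 2 ≤ d ∧ Nonempty ((S : Subgroup X) ≃* DihedralGroup d)

/-- A group with cyclic or dihedral Sylow 2-subgroups does not involve `Qd(p)`. -/
theorem qdFree {X : Type u} [Group X] [Finite X] (hdc : DCTwo X) {p : ℕ} [Fact p.Prime] (hp : p ≠ 2) :
    ¬ Cfsg.Involves ↥(Cfsg.qd p) X := by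
  rintro ⟨K, R, hR, ⟨e⟩⟩
  haveI := hR
  haveI : Fact (Nat.Prime 2) := ⟨Nat.prime_two⟩
  obtain ⟨s, t, hst⟩ := ZMod.sq_add_sq p (-1)
  let w : Matrix.SpecialLinearGroup (Fin 3) (ZMod p) :=
    ⟨!![0, 1, 0; -1, 0, 0; 0, 0, 1], by simp [Matrix.det_fin_three]⟩
  let x : Matrix.SpecialLinearGroup (Fin 3) (ZMod p) :=
    ⟨!![s, t, 0; t, -s, 0; 0, 0, 1], by
      simp only [Matrix.det_fin_three]
      simp
      linear_combination -hst⟩
  have hw : w ∈ Cfsg.qd p := subset_closure ⟨by simp [w], by simp [w], by simp [w]⟩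
  have hx : x ∈ Cfsg.qd p := subset_closure ⟨by simp [x], by simp [x], by simp [x]⟩
  set W : Cfsg.qd p := ⟨w, hw⟩
  set Y : Cfsg.qd p := ⟨x, hx⟩
  have hne : (2 : ZMod p) ≠ 0 := fun h => hp ((Nat.prime_dvd_prime_iff_eq Fact.out Nat.prime_two).1
    ((ZMod.natCast_eq_zero_iff 2 p).1 (by exact_mod_cast h)))
  have hw2 : W * W ≠ 1 := fun h => by
    have h3 : ((w * w : Matrix.SpecialLinearGroup (Fin 3) (ZMod p)) : Matrix (Fin 3) (Fin 3) (ZMod p)) 0 0 = 1 := by
      rw [show w * w = 1 from congrArg Subtype.val h, Matrix.SpecialLinearGroup.coe_one, Matrix.one_apply_eq]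
    rw [Matrix.SpecialLinearGroup.coe_mul, Matrix.mul_apply, Fin.sum_univ_three] at h3
    simp [w] at h3
    exact hne (by linear_combination -h3)
  have hxw : Y * W * Y⁻¹ = W⁻¹ := by
    rw [mul_inv_eq_iff_eq_mul, eq_inv_mul_iff_mul_eq]
    refine Subtype.ext (Subtype.ext ?_)
    show (w : Matrix (Fin 3) (Fin 3) (ZMod p)) * ((x : Matrix (Fin 3) (Fin 3) (ZMod p)) * w) = x
    ext i j
    fin_cases i <;> fin_cases j <;> simp [w, x, Matrix.mul_apply, Fin.sum_univ_three]
  have hxx : Y * Y = W * W := by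
    refine Subtype.ext (Subtype.ext ?_)
    show (x : Matrix (Fin 3) (Fin 3) (ZMod p)) * x = (w : Matrix (Fin 3) (Fin 3) (ZMod p)) * w
    ext i j
    fin_cases i <;> fin_cases j <;> simp [w, x, Matrix.mul_apply, Fin.sum_univ_three] <;>
      first | linear_combination hst | linear_combination -hst | ring
  have hw4 : W ^ 4 = 1 := by
    refine Subtype.ext (Subtype.ext ?_)
    show (w : Matrix (Fin 3) (Fin 3) (ZMod p)) ^ 4 = 1
    ext i j
    fin_cases i <;> fin_cases j <;> simp [w, pow_succ, Matrix.mul_apply, Fin.sum_univ_three]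
  have hy4 : Y ^ 4 = 1 := by
    rw [show (4 : ℕ) = 2 * 2 from rfl, pow_mul, pow_two Y, hxx, ← pow_two, ← pow_mul]; exact hw4
  have hpz : ∀ y : Cfsg.qd p, y ^ 4 = 1 → IsPGroup 2 (zpowers y) := fun y hy => by
    obtain ⟨k, -, hk⟩ := (Nat.dvd_prime_pow Nat.prime_two).mp (orderOf_dvd_of_pow_eq_one (n := 2 ^ 2) hy)
    exact IsPGroup.of_card (n := k) (by rw [Nat.card_zpowers, hk])
  have hn : zpowers Y ≤ normalizer (zpowers W : Set (Cfsg.qd p)) := by
    refine zpowers_le.mpr (mem_normalizer_iff_conj_image_eq.mpr ?_)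
    have h1 : (zpowers W).map (MulAut.conj Y).toMonoidHom = zpowers W := by
      rw [MonoidHom.map_zpowers, show (MulAut.conj Y).toMonoidHom W = W⁻¹ from hxw, zpowers_inv]
    exact congrArg SetLike.coe h1
  obtain ⟨T, hT⟩ := ((hpz W hw4).to_sup_of_normal_left' (hpz Y hy4) hn).exists_le_sylow
  let π : K →* Cfsg.qd p := e.toMonoidHom.comp (QuotientGroup.mk' _)
  have hπ : Function.Surjective π := e.surjective.comp (QuotientGroup.mk'_surjective _)
  obtain ⟨T0, hT0⟩ := Sylow.mapSurjective_surjective hπ 2 T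
  obtain ⟨S, hS⟩ := (T0.2.map K.subtype).exists_le_sylow
  set f := π.comp (T0 : Subgroup K).subtype
  have hWf : ∀ y ∈ zpowers W ⊔ zpowers Y, y ∈ f.range := fun y hy => by
    obtain ⟨a, ha, rfl⟩ := (hT0 ▸ hT hy : y ∈ (T0.mapSurjective hπ : Subgroup (Cfsg.qd p)))
    exact ⟨⟨a, ha⟩, rfl⟩
  have eT : (T0 : Subgroup K) ≃* ↥((T0 : Subgroup K).map K.subtype) :=
    (T0 : Subgroup K).equivMapOfInjective _ K.subtype_injective
  set W' : f.range := ⟨W, hWf W (mem_sup_left (mem_zpowers W))⟩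
  set Y' : f.range := ⟨Y, hWf Y (mem_sup_right (mem_zpowers Y))⟩
  have hcyc : ¬ IsCyclic f.range := fun hc => by
    letI := hc.commGroup
    have h : Y' * W' * Y'⁻¹ = W'⁻¹ := Subtype.ext hxw
    rw [mul_comm Y', mul_inv_cancel_right] at h
    exact hw2 (congrArg Subtype.val (eq_inv_iff_mul_eq_one.1 h))
  have key : ∀ {d : ℕ}, 2 ≤ d → ((T0 : Subgroup K) ≃* DihedralGroup d) → False := by
    intro d hd g
    haveI : NeZero d := ⟨by omega⟩
    rcases range_dihedral (f.comp g.symm.toMonoidHom) with hc | ⟨d', hd', ⟨g'⟩⟩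
    · rw [range_comp_equiv] at hc; exact hcyc hc
    · haveI : NeZero d' := ⟨by omega⟩
      let h := (MulEquiv.subgroupCongr (range_comp_equiv f g.symm).symm).trans g'
      refine no_quat (w := h W') (x := h Y') ?_ ?_ ?_
      · rw [← map_mul]
        exact fun e => hw2 (congrArg Subtype.val (h.injective (e.trans (map_one h).symm)))
      · rw [← map_inv, ← map_mul, ← map_mul, ← map_inv]; exact congrArg h (Subtype.ext hxw)
      · rw [← map_mul, ← map_mul]; exact congrArg h (Subtype.ext hxx)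
  rcases hdc S with hc | ⟨d, hd, ⟨g⟩⟩
  · haveI := hc
    haveI : IsCyclic (T0 : Subgroup K) := by
      haveI := isCyclic_of_le hS
      exact isCyclic_of_injective eT.toMonoidHom eT.injective
    exact hcyc (isCyclic_of_surjective f.rangeRestrict f.rangeRestrict_surjective)
  · haveI : NeZero d := ⟨by omega⟩
    rcases sub_of_equiv g hS with hc | ⟨d', hd', ⟨g'⟩⟩
    · haveI : IsCyclic (T0 : Subgroup K) := isCyclic_of_injective eT.toMonoidHom eT.injective
      exact hcyc (isCyclic_of_surjective f.rangeRestrict f.rangeRestrict_surjective)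
    · exact key hd' (eT.trans g')

variable {G : Type u} [Group G] [Finite G]

theorem Minimal.dc (hm : Minimal G) : DCTwo G := fun S => by
  obtain ⟨m, hm4, e⟩ := hm.sylow S
  exact Or.inr ⟨m, by omega, e⟩

theorem Minimal.dc_sub (hm : Minimal G) (H : Subgroup G) : DCTwo H := fun S => by
  obtain ⟨Q, hQ⟩ := (S.2.map H.subtype).exists_le_sylow
  obtain ⟨m, hm4, ⟨e⟩⟩ := hm.sylow Q
  haveI : NeZero m := ⟨by omega⟩
  have eS := (S : Subgroup H).equivMapOfInjective H.subtype H.subtype_injective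
  rcases sub_of_equiv e hQ with hc | ⟨d, hd, ⟨g⟩⟩
  · haveI := hc
    exact Or.inl (isCyclic_of_injective eS.toMonoidHom eS.injective)
  · exact Or.inr ⟨d, hd, ⟨eS.trans g⟩⟩

theorem Minimal.eight_le (hm : Minimal G) (S : Sylow 2 G) : 8 ≤ Nat.card (S : Subgroup G) := by
  obtain ⟨m, hm4, ⟨e⟩⟩ := hm.sylow S
  rw [Nat.card_congr e.toEquiv, DihedralGroup.nat_card]
  omega

theorem Minimal.exists_conj (hm : Minimal G) {x y : G} (hx : orderOf x = 2) (hy : orderOf y = 2) :
    ∃ g : G, g * x * g⁻¹ = y := by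
  haveI : Fact (Nat.Prime 2) := ⟨Nat.prime_two⟩
  obtain ⟨S⟩ : Nonempty (Sylow 2 G) := inferInstance
  obtain ⟨m, hm4, hS⟩ := hm.sylow S
  obtain ⟨-, k, hk⟩ := dihedral_data S (by omega) hS
  refine Cfsg.Agent.S0107.result S (k + 1) ?_ (by rw [← hk]; exact hS) ?_ x y hx hy
  · rcases k with _ | k
    · omega
    · omega
  haveI := hm.simple
  set L := Cfsg.pResidual 2 G with hL
  haveI : L.Normal := ⟨fun a ha g => by
    have h : L.map (MulAut.conj g).toMonoidHom ≤ L := by
      rw [hL, Cfsg.pResidual, MonoidHom.map_closure, closure_le]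
      rintro _ ⟨b, hb, rfl⟩
      exact subset_closure (by
        show Nat.Coprime _ 2
        rw [MulEquiv.coe_toMonoidHom, MulEquiv.orderOf_eq]; exact hb)
    exact h ⟨a, ha, rfl⟩⟩
  refine (IsSimpleGroup.eq_bot_or_eq_top_of_normal L inferInstance).resolve_left fun h => hm.nonab ?_
  have h2 : IsPGroup 2 G := by
    refine IsPGroup.iff_orderOf.2 fun g => ?_
    obtain ⟨a, r, hr, hn⟩ := Nat.exists_eq_pow_mul_and_not_dvd (orderOf_pos g).ne' 2 (by norm_num)
    refine ⟨a, ?_⟩
    have hg : g ^ 2 ^ a ∈ L := subset_closure (by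
      show Nat.Coprime _ 2
      rw [orderOf_pow_of_dvd (pow_ne_zero a two_ne_zero) ⟨r, hn⟩, hn, Nat.mul_div_cancel_left _ (by positivity)]
      exact ((Nat.Prime.coprime_iff_not_dvd Nat.prime_two).2 hr).symm)
    rw [h, mem_bot] at hg
    exact Nat.dvd_antisymm (orderOf_dvd_of_pow_eq_one hg) ⟨r, hn⟩
  haveI := h2.isNilpotent
  exact ⟨⟨IsSimpleGroup.comm_iff_isSolvable.2 inferInstance⟩⟩

variable (F : GW.Frame G)

/-- A 2-group centralising the four-group lies in it. -/
theorem two_le_of_cent (hm : Minimal G) {Q : Subgroup G} (hQ : IsPGroup 2 Q)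
    (hc : Q ≤ centralizer (F.U : Set G)) : Q ≤ F.U := by
  haveI : Fact (Nat.Prime 2) := ⟨Nat.prime_two⟩
  obtain ⟨S, hS⟩ := (hQ.to_sup_of_normal_right' F.isPGroup_U
    (hc.trans (centralizer_le_normalizer _))).exists_le_sylow
  obtain ⟨m, hm4, ⟨e⟩⟩ := hm.sylow S
  haveI : NeZero m := ⟨by omega⟩
  intro x hx
  have hxS := hS (mem_sup_left hx)
  have htS := hS (mem_sup_right F.t_mem_U)
  have huS := hS (mem_sup_right F.u_mem_U)
  have h := F.mem_centralizer_U.1 (hc hx)
  have := cent_four (x := e ⟨x, hxS⟩) (a := e ⟨F.t, htS⟩) (b := e ⟨F.u, huS⟩)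
    (by rw [← map_mul, ← map_one e]; exact congrArg e (Subtype.ext F.t_sq))
    (by rw [← map_mul, ← map_one e]; exact congrArg e (Subtype.ext F.u_sq))
    (fun h' => F.t_ne_one (congrArg Subtype.val (e.injective (h'.trans (map_one e).symm))))
    (fun h' => F.u_ne_one (congrArg Subtype.val (e.injective (h'.trans (map_one e).symm))))
    (fun h' => F.t_ne_u (congrArg Subtype.val (e.injective h')))
    (by rw [← map_mul, ← map_mul]; exact congrArg e (Subtype.ext F.comm))
    (by rw [← map_mul, ← map_mul]; exact congrArg e (Subtype.ext h.1))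
    (by rw [← map_mul, ← map_mul]; exact congrArg e (Subtype.ext h.2))
  rw [← map_mul, MulEquiv.map_eq_one_iff, e.injective.eq_iff, e.injective.eq_iff, e.injective.eq_iff] at this
  rcases this with h' | h' | h' | h' <;> have h'' := congrArg Subtype.val h'
  · rw [show x = 1 from h'']; exact one_mem _
  · rw [show x = F.t from h'']; exact F.t_mem_U
  · rw [show x = F.u from h'']; exact F.u_mem_U
  · rw [show x = F.t * F.u from h'']; exact mul_mem F.t_mem_U F.u_mem_U

/-- A normal subgroup of a 2-group containing the four-group holds one of its involutions, centrally. -/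
theorem exists_central (hm : Minimal G) {T : Subgroup G} (hT : IsPGroup 2 T) (hU : F.U ≤ T)
    {N : Subgroup T} [N.Normal] (hN : N ≠ ⊥) :
    ∃ s ∈ F.U, s ≠ 1 ∧ (∃ h : s ∈ T, (⟨s, h⟩ : T) ∈ N) ∧ T ≤ centralizer {s} := by
  haveI : Fact (Nat.Prime 2) := ⟨Nat.prime_two⟩
  obtain ⟨z, hzN, hzc, hz2⟩ := Cfsg.Lib.PGroups.exists_mem_center_of_normal_ne_bot hT hN
  have hzU : (z : G) ∈ F.U := by
    refine two_le_of_cent F hm (Q := zpowers (z : G))
      (IsPGroup.of_card (n := 1) (by rw [Nat.card_zpowers, Subgroup.orderOf_coe, hz2, pow_one]))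
      (zpowers_le.2 (mem_centralizer_iff.2 fun a ha => ?_)) (mem_zpowers _)
    exact congrArg Subtype.val (mem_center_iff.1 hzc ⟨a, hU ha⟩)
  refine ⟨z, hzU, fun e => ?_, ⟨z.2, hzN⟩, fun x hx => ?_⟩
  · rw [show z = 1 from Subtype.ext e, orderOf_one] at hz2
    omega
  · exact mem_centralizer_singleton_iff.2 (congrArg Subtype.val (mem_center_iff.1 hzc ⟨x, hx⟩))

/-- A Sylow subgroup of `G` through the four-group with `t` in its centre. -/
theorem exists_sylow_t (hm : Minimal G) {X : Subgroup G} (hX : IsPGroup 2 X) (hXC : X ≤ F.C) :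
    ∃ T : Sylow 2 G, X ≤ (T : Subgroup G) ∧ (T : Subgroup G) ≤ F.C := by
  haveI : Fact (Nat.Prime 2) := ⟨Nat.prime_two⟩
  obtain ⟨S⟩ : Nonempty (Sylow 2 G) := inferInstance
  haveI : Nontrivial (S : Subgroup G) := by
    have := hm.eight_le S
    exact Finite.one_lt_card_iff_nontrivial.1 (by omega)
  obtain ⟨z, -, hzc, hz2⟩ := Cfsg.Lib.PGroups.exists_mem_center_of_normal_ne_bot S.2
    (N := ⊤) top_ne_bot
  obtain ⟨g, hg⟩ := hm.exists_conj (x := (z : G)) (y := F.t) (by rw [Subgroup.orderOf_coe, hz2]) F.t_order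
  have hle : ((S : Subgroup G)).map (MulAut.conj g).toMonoidHom ≤ F.C := by
    rintro _ ⟨x, hx, rfl⟩
    refine F.mem_C.2 ?_
    rw [← hg]
    have h : x * z = z * x := congrArg Subtype.val (mem_center_iff.1 hzc ⟨x, hx⟩)
    show g * x * g⁻¹ * (g * z * g⁻¹) = g * z * g⁻¹ * (g * x * g⁻¹)
    rw [conj_mul, conj_mul, h]
  obtain ⟨P, hP⟩ := (hX.comap_subtype (K := F.C)).exists_le_sylow
  have hcard : Nat.card ↥((P : Subgroup F.C).map F.C.subtype) = 2 ^ (Nat.card G).factorization 2 := by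
    rw [card_map_of_injective F.C.subtype_injective, P.card_eq_multiplicity]
    congr 1
    refine le_antisymm ((Nat.factorization_le_iff_dvd Nat.card_pos.ne' Nat.card_pos.ne').2
      (card_subgroup_dvd_card _) 2) ?_
    have h := card_dvd_of_le hle
    rw [card_map_of_injective (MulAut.conj g).injective, S.card_eq_multiplicity] at h
    exact (Nat.prime_two.pow_dvd_iff_le_factorization Nat.card_pos.ne').1 h
  refine ⟨Sylow.ofCard _ hcard, fun x hx => ?_, ?_⟩
  · rw [Sylow.coe_ofCard]; exact ⟨⟨x, hXC hx⟩, hP (mem_subgroupOf.2 hx), rfl⟩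
  · rw [Sylow.coe_ofCard]; exact map_subtype_le _

/-- `O` consists of the elements of odd order centralising `t`. -/
theorem mem_O (hm : Minimal G) {x : G} : x ∈ F.O ↔ x * F.t = F.t * x ∧ Odd (orderOf x) := by
  refine ⟨fun h => ⟨F.mem_C.1 (F.O_le h), GW.Frame.odd_orderOf F.odd_card_O h⟩, fun ⟨hc, ho⟩ => ?_⟩
  obtain ⟨S⟩ : Nonempty (Sylow 2 G) := inferInstance
  obtain ⟨m, hm4, hS⟩ := hm.sylow S
  obtain ⟨N, hN, hodd, k, hk⟩ := Cfsg.Agent.S0514.result S m (by omega) hS F.t F.t_order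
  haveI := hN
  let y : ↥(centralizer ({F.t} : Set G)) := ⟨x, F.mem_C.2 hc⟩
  have hmem : y ∈ N := by
    have h1 : orderOf (QuotientGroup.mk' N y) ∣ 2 ^ k := by
      rw [← hk, index_eq_card]; exact orderOf_dvd_natCard _
    have h2 : orderOf (QuotientGroup.mk' N y) ∣ orderOf x :=
      (orderOf_map_dvd _ _).trans (Subgroup.orderOf_mk x y.2).dvd
    exact (QuotientGroup.eq_one_iff _).1 (orderOf_eq_one_iff.1 (Nat.eq_one_of_dvd_coprimes
      ((Nat.coprime_two_left.2 ho).pow_left k) h1 h2))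
  exact ⟨_, Cfsg.Lib.Components.le_pPrimeCore (Nat.coprime_two_right.2 hodd) hmem, rfl⟩

theorem mem_W_iff (hm : Minimal G) {x : G} : x ∈ F.W ↔ x ∈ centralizer (F.U : Set G) ∧ Odd (orderOf x) :=
  ⟨fun h => ⟨F.W_le_centralizer_U h, GW.Frame.odd_orderOf F.odd_card_W h⟩,
    fun ⟨h, ho⟩ => F.mem_W.2 ⟨(mem_O F hm).2 ⟨(F.mem_centralizer_U.1 h).1, ho⟩, (F.mem_centralizer_U.1 h).2⟩⟩

theorem σ_mem_normalizer_W (hm : Minimal G) : F.σ ∈ normalizer (F.W : Set G) := by
  refine mem_normalizer_iff.2 fun x => ?_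
  rw [mem_W_iff F hm, mem_W_iff F hm, ← MulEquiv.orderOf_eq (MulAut.conj F.σ) x]
  exact and_congr_left' (mem_normalizer_iff.1 F.σ_mem_centralizer_U x)

end Cfsg.Lib.GWD
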