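import Cfsg.Agent.GWDihedral.Local.Spec
import Cfsg.Agent.GWDihedral.Local.Two
import Cfsg.Agent.FourGroupGW.Proper

/-!
GW dihedral, `Lc`: where a four-group is rotated it centralises the invariant `p`-subgroups of the odd core,
given that every Sylow `p`-subgroup is centralised by an involution.
-/

set_option autoImplicit false
set_option linter.unusedSectionVars false
set_option linter.style.haveILetI false

namespace Cfsg.Lib.GWD

open Subgroup
open Cfsg.Lib.GW (Core le_normalizer_core core_le exists_conj_of_cong)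
open Cfsg.Lib.GW.Frame (opc opc_le normalizer_opc le_opc odd_of_pgroup normalizer_le_zj odd_card_core)

universe u

variable {G : Type u} [Group G] [Finite G] (F : GW.Frame G)

theorem Rot.mono {F : GW.Frame G} {H K : Subgroup G} (h : Rot F H) (hle : H ≤ K) : Rot F K := by
  obtain ⟨hU, g, hg, h1, h2⟩ := h
  exact ⟨hU.trans hle, g, hle hg, h1, h2⟩

/-- The rotation normalises the four-group. -/
theorem exists_rot {H : Subgroup G} (h : Rot F H) :
    ∃ g ∈ H, g ∈ normalizer (F.U : Set G) ∧ g * F.t * g⁻¹ = F.u ∧ g * F.u * g⁻¹ = F.t * F.u ∧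
      g * (F.t * F.u) * g⁻¹ = F.t := by
  obtain ⟨-, g, hg, h1, h2⟩ := h
  have h3 : g * (F.t * F.u) * g⁻¹ = F.t := by
    rw [← conj_mul, h1, h2, ← mul_assoc, ← F.comm, mul_assoc, F.u_sq, mul_one]
  refine ⟨g, hg, Cfsg.Lib.GW.mem_normalizer_finite fun x hx => ?_, h1, h2, h3⟩
  rcases F.mem_U.1 hx with rfl | rfl | rfl | rfl
  · simp [one_mem]
  · rw [h1]; exact F.u_mem_U
  · rw [h2]; exact mul_mem F.t_mem_U F.u_mem_U
  · rw [h3]; exact F.t_mem_U

theorem card_le_sylow {H Q : Subgroup G} (hQ : IsPGroup 2 Q) (hQH : Q ≤ H) (T : Sylow 2 H) :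
    Nat.card Q ≤ Nat.card (T : Subgroup H) := by
  haveI : Fact (Nat.Prime 2) := ⟨Nat.prime_two⟩
  obtain ⟨P, hP⟩ := (hQ.comap_subtype (K := H)).exists_le_sylow
  rw [← Nat.card_congr (subgroupOfEquivOfLe hQH).toEquiv, T.card_eq_multiplicity, ← P.card_eq_multiplicity]
  exact card_le_of_le hP

/-- A subgroup in which the three involutions of the four-group are conjugate rotates it. -/
theorem rot_of_conj (hm : Minimal G) {H : Subgroup G} (hU : F.U ≤ H) {g₁ g₂ : G} (hg₁ : g₁ ∈ H)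
    (h₁ : g₁ * F.t * g₁⁻¹ = F.u) (hg₂ : g₂ ∈ H) (h₂ : g₂ * F.t * g₂⁻¹ = F.t * F.u) : Rot F H := by
  haveI : Fact (Nat.Prime 2) := ⟨Nat.prime_two⟩
  obtain ⟨T, hT⟩ := (F.isPGroup_U.comap_subtype (K := H)).exists_le_sylow
  have hTc : Nat.card (T : Subgroup H) = Nat.card ↥((T : Subgroup H).map H.subtype) :=
    (card_map_of_injective H.subtype_injective).symm
  set Tg := (T : Subgroup H).map H.subtype
  have hUT : F.U ≤ Tg := fun x hx => ⟨⟨x, hU hx⟩, hT (mem_subgroupOf.2 hx), rfl⟩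
  have hTg : IsPGroup 2 Tg := T.2.map _
  have hsmall : ∀ x ∈ H, x ∈ centralizer (F.U : Set G) → IsPGroup 2 (zpowers x) → x ∈ F.U :=
    fun x _ hx h2 => two_le_of_cent F hm h2 (zpowers_le.2 hx) (mem_zpowers x)
  by_cases h4 : Nat.card (T : Subgroup H) ≤ 4
  · -- the four-group is a Sylow subgroup
    have hTU : Tg = F.U := (eq_of_le_of_card_ge hUT (by rw [← hTc, F.card_U]; exact h4)).symm
    have hPc : (T : Subgroup H) = F.U.subgroupOf H := by
      rw [← hTU, subgroupOf, comap_map_eq_self_of_injective H.subtype_injective]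
    haveI : IsMulCommutative (T : Subgroup H) := by
      rw [hPc]
      exact ⟨⟨fun a b => Subtype.ext (Subtype.ext (F.U_comm a.2 b.2))⟩⟩
    obtain ⟨n, hn, e⟩ := Sylow.conj_eq_normalizer_conj_of_mem T ⟨F.t, hU F.t_mem_U⟩ (⟨g₁, hg₁⟩⁻¹ : H)
      (show _ ∈ (T : Subgroup H) by rw [hPc]; exact F.t_mem_U)
      (show _ ∈ (T : Subgroup H) by
        rw [hPc]; simp only [inv_inv]; show g₁ * F.t * g₁⁻¹ ∈ F.U; rw [h₁]; exact F.u_mem_U)
    set m : G := (n : G)⁻¹ with hmdef
    have hmt : m * F.t * m⁻¹ = F.u := by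
      have := congrArg Subtype.val e
      simp only [inv_inv] at this
      rw [hmdef, inv_inv]
      exact this.symm.trans h₁
    have hmU : m ∈ normalizer (F.U : Set G) := by
      refine inv_mem (Cfsg.Lib.GW.mem_normalizer_finite fun x hx => ?_)
      have := (mem_normalizer_iff.1 hn ⟨x, hU hx⟩).1 (by rw [hPc]; exact hx)
      rw [hPc] at this
      exact this
    rcases F.mem_U.1 ((mem_normalizer_iff.1 hmU _).1 F.u_mem_U) with h | h | h | h
    · exact absurd (conj_eq_one_iff.1 h) F.u_ne_one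
    · -- `m` would swap `t` and `u`
      exfalso
      have hmm : m * m ∈ centralizer (F.U : Set G) := F.mem_centralizer_U.2
        ⟨mul_inv_eq_iff_eq_mul.1 (by rw [show m * m * F.t * (m * m)⁻¹ = m * (m * F.t * m⁻¹) * m⁻¹ by group, hmt, h]),
          mul_inv_eq_iff_eq_mul.1 (by rw [show m * m * F.u * (m * m)⁻¹ = m * (m * F.u * m⁻¹) * m⁻¹ by group, h, hmt])⟩
      obtain ⟨a, r, hr, hn'⟩ := Nat.exists_eq_pow_mul_and_not_dvd (orderOf_pos m).ne' 2 (by norm_num)
      obtain ⟨i, hi⟩ : Odd r := Nat.not_even_iff_odd.1 fun he => hr (even_iff_two_dvd.1 he)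
      have hy : (m ^ r) * F.t * (m ^ r)⁻¹ = F.u := by
        rw [hi, pow_succ', pow_mul, pow_two]
        have hc := (F.mem_centralizer_U.1 (pow_mem hmm i)).1
        rw [show m * (m * m) ^ i * F.t * (m * (m * m) ^ i)⁻¹ =
          m * ((m * m) ^ i * F.t * ((m * m) ^ i)⁻¹) * m⁻¹ by group, hc, mul_inv_cancel_right, hmt]
      have hP : IsPGroup 2 (zpowers (m ^ r)) := by
        refine IsPGroup.of_card (n := a) ?_
        rw [Nat.card_zpowers, orderOf_pow, hn', Nat.gcd_eq_right (dvd_mul_left r _),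
          Nat.mul_div_cancel _ (Nat.pos_of_ne_zero fun e => hr (by rw [e]; exact dvd_zero 2))]
      have hs := hP.to_sup_of_normal_right' F.isPGroup_U (zpowers_le.2 (pow_mem hmU r))
      have hc := card_le_sylow hs (sup_le (zpowers_le.2 (pow_mem (inv_mem n.2) r)) hU) T
      have hyU : m ^ r ∈ F.U := by
        rw [eq_of_le_of_card_ge (le_sup_right : F.U ≤ zpowers (m ^ r) ⊔ F.U)
          (by rw [F.card_U]; exact hc.trans h4)]
        exact mem_sup_left (mem_zpowers _)
      rw [F.U_comm hyU F.t_mem_U, mul_inv_cancel_right] at hy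
      exact F.t_ne_u hy
    · exact absurd ((MulAut.conj m).injective (h.trans hmt.symm)) F.t_ne_u.symm
    · exact ⟨hU, m, inv_mem n.2, hmt, h⟩
  -- every involution of the four-group is fixed by a transposition
  obtain ⟨s₀, hs₀U, hs₀1, -, hs₀c⟩ := exists_central F hm hTg hUT (N := ⊤) (fun e => by
    have hmem : (⟨F.t, hUT F.t_mem_U⟩ : Tg) ∈ (⊥ : Subgroup Tg) := e ▸ mem_top _
    exact F.t_ne_one (congrArg Subtype.val (mem_bot.1 hmem)))
  have hconj : ∀ s ∈ F.U, s ≠ 1 → ∃ k ∈ H, k * F.t * k⁻¹ = s := by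
    intro s hs hs1
    rcases F.mem_U.1 hs with rfl | rfl | rfl | rfl
    exacts [absurd rfl hs1, ⟨1, one_mem _, by group⟩, ⟨g₁, hg₁, h₁⟩, ⟨g₂, hg₂, h₂⟩]
  have hswap : ∀ s ∈ F.U, s ≠ 1 → ∃ x ∈ H, x ∈ normalizer (F.U : Set G) ∧
      x * s * x⁻¹ = s ∧ x ∉ centralizer (F.U : Set G) := by
    intro s hs hs1
    obtain ⟨k₀, hk₀, e₀⟩ := hconj s₀ hs₀U hs₀1
    obtain ⟨k₁, hk₁, e₁⟩ := hconj s hs hs1
    set k := k₁ * k₀⁻¹
    have hks : k * s₀ * k⁻¹ = s := by
      rw [← e₀, ← e₁, show k = k₁ * k₀⁻¹ from rfl]; group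
    set C' := H ⊓ centralizer ({s} : Set G) with hC'
    have hTk : Tg.map (MulAut.conj k).toMonoidHom ≤ C' := by
      rintro _ ⟨x, hx, rfl⟩
      refine mem_inf.2 ⟨mul_mem (mul_mem (mul_mem hk₁ (inv_mem hk₀)) (map_subtype_le _ hx))
        (inv_mem (mul_mem hk₁ (inv_mem hk₀))), mem_centralizer_singleton_iff.2 ?_⟩
      have h : x * s₀ = s₀ * x := mem_centralizer_singleton_iff.1 (hs₀c hx)
      rw [← hks]
      show k * x * k⁻¹ * (k * s₀ * k⁻¹) = k * s₀ * k⁻¹ * (k * x * k⁻¹)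
      rw [conj_mul, conj_mul, h]
    have hUC : F.U ≤ C' := le_inf hU fun x hx => mem_centralizer_singleton_iff.2 (F.U_comm hx hs)
    obtain ⟨P, hP⟩ := (F.isPGroup_U.comap_subtype (K := C')).exists_le_sylow
    have hP4 : 4 < Nat.card ↥((P : Subgroup C').map C'.subtype) := by
      rw [card_map_of_injective C'.subtype_injective]
      refine lt_of_lt_of_le ?_ (card_le_sylow (hTg.map _) hTk P)
      rw [card_map_of_injective (MulAut.conj k).injective, ← hTc]
      omega
    set Pg := (P : Subgroup C').map C'.subtype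
    have hUP : F.U ≤ Pg := fun x hx => ⟨⟨x, hUC hx⟩, hP (mem_subgroupOf.2 hx), rfl⟩
    haveI : Group.IsNilpotent Pg := (P.2.map _).isNilpotent
    obtain ⟨x, hx, hxU⟩ := SetLike.exists_of_lt (Group.normalizerCondition_of_isNilpotent (F.U.subgroupOf Pg)
      (lt_top_iff_ne_top.2 fun h => by
        rw [le_antisymm hUP (subgroupOf_eq_top.1 h) |>.symm, F.card_U] at hP4; omega))
    have hxn : (x : G) ∈ normalizer (F.U : Set G) := Cfsg.Lib.GW.mem_normalizer_finite fun y hy =>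
      mem_subgroupOf.1 ((mem_normalizer_iff.1 hx ⟨y, hUP hy⟩).1 (mem_subgroupOf.2 hy))
    have hxC : (x : G) ∈ C' := map_subtype_le _ x.2
    refine ⟨x, (mem_inf.1 hxC).1, hxn, mul_inv_eq_iff_eq_mul.2
      (mem_centralizer_singleton_iff.1 (mem_inf.1 hxC).2), fun hc => hxU (mem_subgroupOf.2 ?_)⟩
    exact hsmall x (mem_inf.1 hxC).1 hc ((P.2.map _).to_le (zpowers_le.2 x.2))
  obtain ⟨x, hxH, hxn, hxt, hxc⟩ := hswap F.t F.t_mem_U F.t_ne_one
  obtain ⟨y, hyH, hyn, hyu, hyc⟩ := hswap F.u F.u_mem_U F.u_ne_one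
  have hxu : x * F.u * x⁻¹ = F.t * F.u := by
    rcases F.mem_U.1 ((mem_normalizer_iff.1 hxn _).1 F.u_mem_U) with h | h | h | h
    · exact absurd (conj_eq_one_iff.1 h) F.u_ne_one
    · exact absurd ((MulAut.conj x).injective (h.trans hxt.symm)) F.t_ne_u.symm
    · exact absurd (F.mem_centralizer_U.2 ⟨mul_inv_eq_iff_eq_mul.1 hxt, mul_inv_eq_iff_eq_mul.1 h⟩) hxc
    · exact h
  have hyt : y * F.t * y⁻¹ = F.t * F.u := by
    rcases F.mem_U.1 ((mem_normalizer_iff.1 hyn _).1 F.t_mem_U) with h | h | h | h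
    · exact absurd (conj_eq_one_iff.1 h) F.t_ne_one
    · exact absurd (F.mem_centralizer_U.2 ⟨mul_inv_eq_iff_eq_mul.1 h, mul_inv_eq_iff_eq_mul.1 hyu⟩) hyc
    · exact absurd ((MulAut.conj y).injective (h.trans hyu.symm)) F.t_ne_u
    · exact h
  refine ⟨hU, x * y, mul_mem hxH hyH, ?_, ?_⟩
  · rw [show x * y * F.t * (x * y)⁻¹ = x * (y * F.t * y⁻¹) * x⁻¹ by group, hyt, ← conj_mul, hxt, hxu,
      ← mul_assoc, F.t_sq, one_mul]
  · rw [show x * y * F.u * (x * y)⁻¹ = x * (y * F.u * y⁻¹) * x⁻¹ by group, hyu, hxu]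

theorem not_normal_pgroup (hm : Minimal G) {p : ℕ} (hp : p ≠ 2) [Fact p.Prime] {X : Subgroup G}
    (hX : IsPGroup p X) (hne : X ≠ ⊥) : normalizer (X : Set G) ≠ ⊤ := by
  intro h
  haveI := hm.simple
  haveI := normalizer_eq_top_iff.1 h
  rcases IsSimpleGroup.eq_bot_or_eq_top_of_normal X inferInstance with e | e
  · exact hne e
  · haveI : Fact (Nat.Prime 2) := ⟨Nat.prime_two⟩
    obtain ⟨S⟩ : Nonempty (Sylow 2 G) := inferInstance
    have h8 := hm.eight_le S
    obtain ⟨a, ha⟩ := IsPGroup.iff_card.1 S.2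
    have h2 : 2 ∣ Nat.card X := by
      rw [e, Nat.card_congr Subgroup.topEquiv.toEquiv]
      refine dvd_trans ?_ (card_subgroup_dvd_card (S : Subgroup G))
      rw [ha] at h8 ⊢
      rcases a with _ | a
      · norm_num at h8
      · exact ⟨2 ^ a, by rw [pow_succ']⟩
    obtain ⟨k, hk⟩ := IsPGroup.iff_card.1 hX
    rw [hk] at h2
    exact hp ((Nat.prime_dvd_prime_iff_eq Nat.prime_two Fact.out).1 (Nat.prime_two.dvd_of_dvd_pow h2)).symm

/-- in an odd subgroup normalised by a rotating subgroup, an invariant Sylow subgroup centralised by one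
involution of `U` is centralised by `U` -/
theorem sylow_le_centralizer {H K : Subgroup G} (hf : Rot F H)
    (hHK : H ≤ normalizer (K : Set G)) (hK : Odd (Nat.card K)) {p : ℕ} [Fact p.Prime] {P : Subgroup G}
    (hP : P ≤ K) (hPp : IsPGroup p P) (hPs : ¬ p ∣ P.relIndex K) (hPU : F.U ≤ normalizer (P : Set G))
    {s : G} (hs : s ∈ F.U) (hs1 : s ≠ 1) (hsP : P ≤ centralizer {s}) : P ≤ centralizer (F.U : Set G) := by
  obtain ⟨g, hg, hgU, hrot⟩ := exists_rot F hf
  have hUK : F.U ≤ normalizer (K : Set G) := hf.1.trans hHK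
  set Q := P.map (MulAut.conj g).toMonoidHom with hQdef
  have hKg : K.map (MulAut.conj g).toMonoidHom = K := Cfsg.Lib.Coprime.conjMap_eq_self (hHK hg)
  have hQK : Q ≤ K := by rw [← hKg]; exact map_mono hP
  have hQs : ¬ p ∣ Q.relIndex K := by
    rw [← hKg, hQdef, relIndex_map_map_of_injective _ _ (MulAut.conj g).injective]; exact hPs
  have hQU : F.U ≤ normalizer (Q : Set G) := by
    intro v hv
    have hv' : g⁻¹ * v * g ∈ F.U := by
      simpa using (mem_normalizer_iff.1 (inv_mem hgU) v).1 hv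
    refine mem_normalizer_iff.2 fun x => ?_
    rw [hQdef, mem_map_equiv, mem_map_equiv, MulAut.conj_symm_apply, MulAut.conj_symm_apply,
      show g⁻¹ * (v * x * v⁻¹) * g = g⁻¹ * v * g * (g⁻¹ * x * g) * (g⁻¹ * v * g)⁻¹ by group]
    exact mem_normalizer_iff.1 (hPU hv') _
  obtain ⟨c, -, hcU, hc⟩ := F.conj_sylow hK hUK hP hPp hPs hPU hQK (hPp.map _) hQs hQU
  have hall := F.all_of_rot hrot (P := fun s => P ≤ centralizer {s}) (fun s hsU _ h x hx => by
    have hgs : g * s * g⁻¹ ∈ F.U := (mem_normalizer_iff.1 hgU s).1 hsU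
    obtain ⟨y, hy, hye⟩ : c * x * c⁻¹ ∈ Q := by rw [← hc]; exact ⟨x, hx, rfl⟩
    have h1 : Commute y s := mem_centralizer_singleton_iff.1 (h hy)
    have h2 : Commute (c * x * c⁻¹) (g * s * g⁻¹) := by
      have := h1.map (MulAut.conj g).toMonoidHom
      simp only [MulEquiv.coe_toMonoidHom, MulAut.conj_apply] at this hye
      rwa [hye] at this
    have h3 := h2.map (MulAut.conj c⁻¹).toMonoidHom
    simp only [MulEquiv.coe_toMonoidHom, MulAut.conj_apply] at h3
    have e : c⁻¹ * (g * s * g⁻¹) * c⁻¹⁻¹ = g * s * g⁻¹ := by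
      rw [inv_inv, mul_assoc, mem_centralizer_iff.1 hcU _ hgs, inv_mul_cancel_left]
    rw [show c⁻¹ * (c * x * c⁻¹) * c⁻¹⁻¹ = x by group, e] at h3
    exact mem_centralizer_singleton_iff.2 h3.eq) hs hs1 hsP
  exact F.le_centralizer_U hall.1 hall.2

/-- Frattini: the normaliser of an invariant Sylow subgroup of the core stays rotating -/
theorem rot_inf_normalizer {H : Subgroup G} (hf : Rot F H) {p : ℕ} [Fact p.Prime]
    {P : Subgroup G} (hP : P ≤ Core H) (hPp : IsPGroup p P) (hPs : ¬ p ∣ P.relIndex (Core H))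
    (hPU : F.U ≤ normalizer (P : Set G)) : Rot F (H ⊓ normalizer (P : Set G)) := by
  obtain ⟨g, hg, hgU, hgt, hgu, -⟩ := exists_rot F hf
  have hHK := le_normalizer_core H
  have hUK : F.U ≤ normalizer (Core H : Set G) := hf.1.trans hHK
  set Q := P.map (MulAut.conj g).toMonoidHom with hQdef
  have hKg : (Core H).map (MulAut.conj g).toMonoidHom = Core H := Cfsg.Lib.Coprime.conjMap_eq_self (hHK hg)
  have hQK : Q ≤ Core H := by rw [← hKg]; exact map_mono hP
  have hQs : ¬ p ∣ Q.relIndex (Core H) := by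
    rw [← hKg, hQdef, relIndex_map_map_of_injective _ _ (MulAut.conj g).injective]; exact hPs
  have hQU : F.U ≤ normalizer (Q : Set G) := by
    intro v hv
    have hv' : g⁻¹ * v * g ∈ F.U := by simpa using (mem_normalizer_iff.1 (inv_mem hgU) v).1 hv
    refine mem_normalizer_iff.2 fun x => ?_
    rw [hQdef, mem_map_equiv, mem_map_equiv, MulAut.conj_symm_apply, MulAut.conj_symm_apply,
      show g⁻¹ * (v * x * v⁻¹) * g = g⁻¹ * v * g * (g⁻¹ * x * g) * (g⁻¹ * v * g)⁻¹ by group]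
    exact mem_normalizer_iff.1 (hPU hv') _
  obtain ⟨c, hcK, hcU, hc⟩ := F.conj_sylow (odd_card_core H) hUK hP hPp hPs hPU hQK (hPp.map _) hQs hQU
  have hcn : c⁻¹ * g ∈ normalizer (P : Set G) := by
    have h : (P.map (MulAut.conj g).toMonoidHom).map (MulAut.conj c⁻¹).toMonoidHom = P := by
      rw [← hQdef, ← hc, map_map]
      convert Subgroup.map_id P using 2
      ext x; simp [mul_assoc]
    rw [map_map] at h
    rw [← Cfsg.Lib.Transfer.map_conj_eq_self_iff]
    convert h using 2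
    ext x; simp [mul_assoc]
  refine ⟨le_inf hf.1 hPU, c⁻¹ * g, mem_inf.2 ⟨mul_mem (inv_mem (core_le H hcK)) hg, hcn⟩, ?_, ?_⟩
  swap
  · rw [show c⁻¹ * g * F.u * (c⁻¹ * g)⁻¹ = c⁻¹ * (g * F.u * g⁻¹) * c by group, hgu, mul_assoc,
      mem_centralizer_iff.1 hcU _ (mul_mem F.t_mem_U F.u_mem_U), inv_mul_cancel_left]
  rw [show c⁻¹ * g * F.t * (c⁻¹ * g)⁻¹ = c⁻¹ * (g * F.t * g⁻¹) * c by group, hgt, mul_assoc,
    mem_centralizer_iff.1 hcU _ F.u_mem_U, inv_mul_cancel_left]

/-- Where the four-group is rotated it centralises what an involution of the centraliser centralises. -/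
theorem le_centralizer_of_involution (hm : Minimal G) {M R : Subgroup G} (hf : Rot F M)
    (hMR : M ≤ normalizer (R : Set G)) {i : G} (hiM : i ∈ M) (hiR : R ≤ centralizer {i}) (hi2 : orderOf i = 2) :
    R ≤ centralizer (F.U : Set G) := by
  haveI : Fact (Nat.Prime 2) := ⟨Nat.prime_two⟩
  obtain ⟨g₀, hg₀, -, hrot₀⟩ := exists_rot F hf
  have hconj : ∀ {g s : G}, g ∈ M → R ≤ centralizer {s} → R ≤ centralizer {g * s * g⁻¹} := by
    intro g s hg hs x hx
    refine mem_centralizer_singleton_iff.2 ?_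
    have h1 : Commute (g⁻¹ * x * g) s := mem_centralizer_singleton_iff.1 (hs ((mem_normalizer_iff''.1 (hMR hg) x).1 hx))
    have h2 := h1.map (MulAut.conj g).toMonoidHom
    simp only [MulEquiv.coe_toMonoidHom, MulAut.conj_apply] at h2
    rw [show g * (g⁻¹ * x * g) * g⁻¹ = x by group] at h2
    exact h2.eq
  obtain ⟨T', hT'⟩ := (IsPGroup.of_card (G := zpowers (⟨i, hiM⟩ : M)) (p := 2) (n := 1)
    (by rw [Nat.card_zpowers, Subgroup.orderOf_mk, hi2, pow_one])).exists_le_sylow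
  obtain ⟨T, hT⟩ := (F.isPGroup_U.comap_subtype (K := M)).exists_le_sylow
  obtain ⟨h, hh⟩ := MulAction.exists_smul_eq M T' T
  set Tg := (T : Subgroup M).map M.subtype
  have hUT : F.U ≤ Tg := fun x hx => ⟨⟨x, hf.1 hx⟩, hT (mem_subgroupOf.2 hx), rfl⟩
  have hTM : Tg ≤ M := map_subtype_le _
  haveI hN : ((centralizer (R : Set G)).subgroupOf Tg).Normal := ⟨by
    rintro ⟨x, hx⟩ hxc ⟨y, hy⟩
    have hxR : R ≤ centralizer {x} := fun r hr =>
      mem_centralizer_singleton_iff.2 (mem_centralizer_iff.1 (mem_subgroupOf.1 hxc) r hr)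
    exact mem_subgroupOf.2 (mem_centralizer_iff.2 fun r hr =>
      mem_centralizer_singleton_iff.1 (hconj (hTM hy) hxR hr))⟩
  have hhi : (⟨(h : G) * i * (h : G)⁻¹, ⟨h * ⟨i, hiM⟩ * h⁻¹,
      by rw [← hh]; exact ⟨_, hT' (mem_zpowers _), rfl⟩, rfl⟩⟩ : Tg) ∈ (centralizer (R : Set G)).subgroupOf Tg :=
    mem_subgroupOf.2 (mem_centralizer_iff.2 fun r hr => mem_centralizer_singleton_iff.1 (hconj h.2 hiR hr))
  obtain ⟨s, hsU, hs1, ⟨hsT, hsN⟩, -⟩ := exists_central F hm (T.2.map _) hUT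
    (N := (centralizer (R : Set G)).subgroupOf Tg) (fun e => by
      rw [e, mem_bot] at hhi
      have h3 : (h : G) * i * (h : G)⁻¹ = 1 := congrArg Subtype.val hhi
      rw [conj_eq_one_iff] at h3
      rw [h3, orderOf_one] at hi2; omega)
  have hsR : R ≤ centralizer {s} := fun r hr =>
    mem_centralizer_singleton_iff.2 (mem_centralizer_iff.1 (mem_subgroupOf.1 hsN) r hr)
  have hall := F.all_of_rot hrot₀ (P := fun s => R ≤ centralizer {s}) (fun s _ _ hsR => hconj hg₀ hsR) hsU hs1 hsR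
  exact F.le_centralizer_U hall.1 hall.2

/-- what a rotating subgroup with a moved `O_p` gives -/
theorem exists_bigger (hm : Minimal G) (hOdd : F.OddSpec) {p : ℕ} (hp : p ≠ 2)
    [Fact p.Prime] (hyp : ∀ P : Sylow p G, (∃ i : G, orderOf i = 2 ∧ (P : Subgroup G) ≤ centralizer {i}) ∨
      ¬ Rot F (normalizer (Cfsg.centerThompsonAOf (P : Subgroup G) : Set G)))
    {H : Subgroup G} (hH : H ≠ ⊤) (hf : Rot F H)
    (hmov : ¬ opc p H ≤ centralizer (F.U : Set G)) :
    ∃ N : Subgroup G, N ≠ ⊤ ∧ Rot F N ∧ ¬ opc p N ≤ centralizer (F.U : Set G) ∧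
      (Nat.card H).factorization p < (Nat.card N).factorization p := by
  haveI h2 : Fact (Nat.Prime 2) := ⟨Nat.prime_two⟩
  set R := opc p H with hR
  have hRp : IsPGroup p R := (Cfsg.Lib.Components.isPGroup_pCore p).map _
  have hRH : R ≤ H := opc_le p H
  have hHR : H ≤ normalizer (R : Set G) := normalizer_opc p H
  obtain ⟨g₀, hg₀, hg₀U, hrot₀⟩ := exists_rot F hf
  -- the centraliser of `R` in `H` has odd order
  have hCodd : Odd (Nat.card ↥(centralizer (Cfsg.pCore p H : Set H))) := by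
    rw [← Nat.not_even_iff_odd]
    intro he
    obtain ⟨i, hi, hi2⟩ := Cfsg.Lib.StrongEmb.exists_involution_of_even he
    refine hmov (le_centralizer_of_involution F hm hf hHR i.2 ?_ (by rw [Subgroup.orderOf_coe, hi2]))
    rintro _ ⟨r, hr, rfl⟩
    exact mem_centralizer_singleton_iff.2 (congrArg Subtype.val (mem_centralizer_iff.1 hi r hr))
  -- Glauberman factorisation
  obtain ⟨P₁⟩ := (inferInstance : Nonempty (Sylow p H))
  set A := Cfsg.pPrimeCore p H with hA
  have hfac : ∀ P : Sylow p H, A ⊔ normalizer (Cfsg.centerThompsonAOf (P : Subgroup H) : Set H) = ⊤ := fun P =>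
    Cfsg.Lib.GW.sup_normalizer_zj_of_qd hp (qdFree (hm.dc_sub H) hp) hCodd P
  have hAodd : Odd (Nat.card A) := by
    refine hCodd.of_dvd_nat (card_dvd_of_le fun a ha => mem_centralizer_iff.2 fun r hr => ?_)
    have h0 : Disjoint A (Cfsg.pCore p H) := by
      refine Subgroup.disjoint_of_coprime_natCard ?_
      obtain ⟨k, hk⟩ := IsPGroup.iff_card.1 (Cfsg.Lib.Components.isPGroup_pCore (G := H) p)
      rw [hk]; exact Nat.Coprime.pow_right k (Cfsg.Lib.Components.coprime_card_pPrimeCore p)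
    have h1 : a * r * a⁻¹ * r⁻¹ = 1 := disjoint_def.1 h0
      (by rw [show a * r * a⁻¹ * r⁻¹ = a * (r * a⁻¹ * r⁻¹) by group]
          exact mul_mem ha ((inferInstance : A.Normal).conj_mem _ (inv_mem ha) r))
      (mul_mem ((inferInstance : (Cfsg.pCore p H).Normal).conj_mem r hr a) (inv_mem hr))
    exact (mul_inv_eq_iff_eq_mul.1 (mul_inv_eq_one.1 h1)).symm
  -- choose `P` with `U` in the normaliser of its `ZJ`
  obtain ⟨P, hPU⟩ : ∃ P : Sylow p H,
      F.U.subgroupOf H ≤ normalizer (Cfsg.centerThompsonAOf (P : Subgroup H) : Set H) := by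
    set N₁ := normalizer (Cfsg.centerThompsonAOf (P₁ : Subgroup H) : Set H) with hN₁
    obtain ⟨T⟩ := (inferInstance : Nonempty (Sylow 2 N₁))
    have hidx : Odd N₁.index := by
      have h := Cfsg.Lib.Coprime.card_sup_mul_card_inf
        (show N₁ ≤ normalizer (A : Set H) by rw [normalizer_eq_top_iff.2 inferInstance]; exact le_top)
      rw [hfac P₁, Nat.card_congr Subgroup.topEquiv.toEquiv, ← N₁.card_mul_index] at h
      have h' : N₁.index * Nat.card ↥(A ⊓ N₁) = Nat.card A :=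
        Nat.eq_of_mul_eq_mul_left (Nat.card_pos (α := N₁)) (by rw [← mul_assoc, h, mul_comm])
      exact hAodd.of_dvd_nat ⟨_, h'.symm⟩
    have hT : ¬ 2 ∣ ((T : Subgroup N₁).map N₁.subtype).index := by
      rw [index_map_subtype]
      exact fun h => (Nat.prime_two.dvd_mul.1 h).elim T.not_dvd_index
        (fun h => Nat.not_even_iff_odd.2 hidx (even_iff_two_dvd.2 h))
    let T' : Sylow 2 H := (T.2.map N₁.subtype).toSylow hT
    obtain ⟨P2, hP2⟩ := (F.isPGroup_U.comap_subtype (K := H)).exists_le_sylow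
    obtain ⟨h, hh⟩ := MulAction.exists_smul_eq H T' P2
    refine ⟨h • P₁, fun x hx => ?_⟩
    have hx2 : x ∈ (P2 : Subgroup H) := hP2 hx
    rw [← hh] at hx2
    obtain ⟨y, ⟨w, -, rfl⟩, he⟩ := hx2
    have hZ : Cfsg.centerThompsonAOf ((h • P₁ : Sylow p H) : Subgroup H) =
        (Cfsg.centerThompsonAOf (P₁ : Subgroup H)).map (MulAut.conj h).toMonoidHom := by
      rw [Cfsg.Lib.ZJ.centerThompsonAOf_map_injOn (MulAut.conj h).injective.injOn]
      rfl
    rw [hZ, ← he]
    refine mem_normalizer_iff.2 fun z => ?_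
    rw [mem_map_equiv, mem_map_equiv, MulAut.conj_symm_apply, MulAut.conj_symm_apply]
    simp only [MulDistribMulAction.toMonoidEnd_apply, MulDistribMulAction.toMonoidHom_apply,
      MulAut.smul_def, MulAut.conj_apply, Subgroup.coe_subtype]
    rw [show h⁻¹ * ((h * (w : H) * h⁻¹) * z * (h * (w : H) * h⁻¹)⁻¹) * h =
      (w : H) * (h⁻¹ * z * h) * (w : H)⁻¹ by group]
    exact mem_normalizer_iff.1 w.2 _
  set N₂ := normalizer (Cfsg.centerThompsonAOf (P : Subgroup H) : Set H) with hN₂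
  set K := N₂.map H.subtype with hK
  set Pg := (P : Subgroup H).map H.subtype with hPg
  have hPgp : IsPGroup p Pg := P.2.map _
  have hKH : K ≤ H := map_subtype_le _
  have hUK : F.U ≤ K := fun x hx => ⟨⟨x, hf.1 hx⟩, hPU (mem_subgroupOf.2 hx), rfl⟩
  have hZg : Cfsg.centerThompsonAOf Pg = (Cfsg.centerThompsonAOf (P : Subgroup H)).map H.subtype :=
    (Cfsg.Lib.ZJ.centerThompsonAOf_map_injOn H.subtype_injective.injOn).symm
  set N := normalizer (Cfsg.centerThompsonAOf Pg : Set G) with hN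
  have hKN : K ≤ N := by
    rw [hN, hZg]
    exact le_normalizer_map H.subtype
  have hRne : R ≠ ⊥ := fun e => hmov (by rw [e]; exact bot_le)
  have hRPg : R ≤ Pg := map_mono (Cfsg.Lib.Coprime.pCore_le_sylow p P)
  have hPgne : Pg ≠ ⊥ := fun e => hRne (le_bot_iff.1 (e ▸ hRPg))
  have hZle : Cfsg.centerThompsonAOf Pg ≤ Pg :=
    (inf_le_left : Cfsg.centerThompsonAOf Pg ≤ Cfsg.thompsonSubgroupAOf Pg).trans (map_subtype_le _)
  have hNtop : N ≠ ⊤ := not_normal_pgroup hm hp (hPgp.to_le hZle)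
    (Cfsg.Lib.ZJ.centerThompsonAOf_ne_bot hPgp hPgne)
  -- `K` rotates
  have hKf : Rot F K := by
    obtain ⟨a, ha, b, hb, hab⟩ : ∃ a ∈ A, ∃ b ∈ N₂, a * b = (⟨g₀, hg₀⟩ : H) := by
      have h : (⟨g₀, hg₀⟩ : H) ∈ A ⊔ N₂ := by rw [hfac P]; exact mem_top _
      rwa [mem_sup_of_normal_left] at h
    set tH : H := ⟨F.t, hf.1 F.t_mem_U⟩
    set uH : H := ⟨F.u, hf.1 F.u_mem_U⟩
    have htN : tH ∈ N₂ := hPU (mem_subgroupOf.2 F.t_mem_U)
    have huN : uH ∈ N₂ := hPU (mem_subgroupOf.2 F.u_mem_U)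
    set π := QuotientGroup.mk' A with hπ
    have hπ1 : ∀ {x : H}, x ∈ A → π x = 1 := fun h => (QuotientGroup.eq_one_iff _).2 h
    have hπa : π b = π ⟨g₀, hg₀⟩ := by rw [← hab, map_mul, hπ1 ha, one_mul]
    have hodd : Odd (Nat.card ↥(A ⊓ N₂)) := hAodd.of_dvd_nat (card_dvd_of_le inf_le_left)
    have hmk : ∀ {x y : H}, x ∈ N₂ → y ∈ N₂ → π x = π y → y * y = 1 → x * y ∈ A ⊓ N₂ := fun hx hy e hyy =>
      mem_inf.2 ⟨(QuotientGroup.eq_one_iff _).1 (show π (_ * _) = 1 by rw [map_mul, e, ← map_mul, hyy, map_one]),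
        mul_mem hx hy⟩
    have hsq : ∀ c y : H, y * y = 1 → c * y * c⁻¹ * (c * y * c⁻¹) = 1 := fun c y hy => by
      rw [conj_mul, hy, mul_one, mul_inv_cancel]
    have htt : tH * tH = 1 := Subtype.ext F.t_sq
    have huu : uH * uH = 1 := Subtype.ext F.u_sq
    have hvv : tH * uH * (tH * uH) = 1 := Subtype.ext F.v_sq
    have e1 : (⟨g₀, hg₀⟩ : H) * tH * (⟨g₀, hg₀⟩ : H)⁻¹ = uH := Subtype.ext hrot₀.1
    have e2 : (⟨g₀, hg₀⟩ : H) * uH * (⟨g₀, hg₀⟩ : H)⁻¹ = tH * uH := Subtype.ext hrot₀.2.1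
    obtain ⟨x, hx, hxe⟩ := exists_conj_of_cong hodd (hsq b tH htt) huu
      (hmk (mul_mem (mul_mem hb htN) (inv_mem hb)) huN
        (by simp only [map_mul, map_inv, hπa]; simp only [← map_inv, ← map_mul, e1]) huu)
    set b' := x⁻¹ * b with hb'
    have hb'N : b' ∈ N₂ := mul_mem (inv_mem (mem_inf.1 hx).2) hb
    have hπb : π b' = π ⟨g₀, hg₀⟩ := by
      rw [hb', map_mul, map_inv, hπ1 (mem_inf.1 hx).1, inv_one, one_mul, hπa]
    have hbt : b' * tH * b'⁻¹ = uH := by rw [← hxe, hb']; group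
    set v := b' * uH * b'⁻¹ with hv
    have hvc : Commute v uH := by
      have h := (show Commute uH tH from Subtype.ext F.comm.symm).map (MulAut.conj b').toMonoidHom
      simp only [MulEquiv.coe_toMonoidHom, MulAut.conj_apply] at h
      rw [hbt] at h
      exact h
    have hv2 := hmk (mul_mem (mul_mem hb'N huN) (inv_mem hb'N)) (mul_mem htN huN)
        (by simp only [map_mul, map_inv, hπb]; simp only [← map_inv, ← map_mul, e2]) hvv
    have huc : Commute (tH * uH) uH := (show Commute tH uH from Subtype.ext F.comm).mul_left (Commute.refl uH)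
    obtain ⟨y, hy, hye⟩ := exists_conj_of_cong (N := A ⊓ N₂ ⊓ centralizer {uH})
      (hodd.of_dvd_nat (card_dvd_of_le inf_le_left)) (hsq b' uH huu) hvv
      (mem_inf.2 ⟨hv2, mem_centralizer_singleton_iff.2 (hvc.mul_left huc).eq⟩)
    have hyu : y⁻¹ * uH * y = uH := by
      rw [mul_assoc, ← mem_centralizer_singleton_iff.1 (mem_inf.1 hy).2, inv_mul_cancel_left]
    refine ⟨hUK, ((y⁻¹ * b' : H) : G), ⟨_, mul_mem (inv_mem (mem_inf.1 (mem_inf.1 hy).1).2) hb'N, rfl⟩, ?_, ?_⟩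
    · exact congrArg Subtype.val (show y⁻¹ * b' * tH * (y⁻¹ * b')⁻¹ = uH by
        rw [show y⁻¹ * b' * tH * (y⁻¹ * b')⁻¹ = y⁻¹ * (b' * tH * b'⁻¹) * y by group, hbt, hyu])
    · exact congrArg Subtype.val (show y⁻¹ * b' * uH * (y⁻¹ * b')⁻¹ = tH * uH by
        rw [show y⁻¹ * b' * uH * (y⁻¹ * b')⁻¹ = y⁻¹ * (b' * uH * b'⁻¹) * y by group]; exact hye)
  have hNf : Rot F N := hKf.mono hKN
  -- a larger `p`-part
  obtain ⟨S, hS⟩ := hPgp.exists_le_sylow
  have hlt : (Nat.card H).factorization p < (Nat.card N).factorization p := by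
    have hPS : Pg ≠ S := fun e => by
      obtain ⟨i, hi2, hiS⟩ := (hyp S).resolve_right (not_not.2 (by rw [← e]; exact hNf))
      have hiR : R ≤ centralizer {i} := (hRPg.trans e.le).trans hiS
      exact hmov (le_centralizer_of_involution F hm (hf.mono hHR) le_rfl
        (centralizer_le_normalizer _ (mem_centralizer_iff.2 fun r hr => mem_centralizer_singleton_iff.1 (hiR hr)))
        hiR hi2)
    haveI : Group.IsNilpotent (S : Subgroup G) := S.2.isNilpotent
    obtain ⟨q, hq, hqP⟩ := SetLike.exists_of_lt (Group.normalizerCondition_of_isNilpotent (Pg.subgroupOf S)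
      (lt_top_iff_ne_top.2 fun h => hPS (le_antisymm hS (subgroupOf_eq_top.1 h))))
    have hqn : (q : G) ∈ normalizer (Pg : Set G) := by
      refine Cfsg.Lib.Coprime.mem_normalizer_of_conj_mem (fun x hx => ?_) (fun x hx => ?_)
      · exact mem_subgroupOf.1 ((mem_normalizer_iff.1 hq ⟨x, hS hx⟩).1 (mem_subgroupOf.2 hx))
      · have h := (mem_normalizer_iff.1 (inv_mem hq) ⟨x, hS hx⟩).1 (mem_subgroupOf.2 hx)
        simpa using mem_subgroupOf.1 h
    set Q := Pg ⊔ zpowers (q : G) with hQ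
    have hQp : IsPGroup p Q := S.2.to_le (sup_le hS (zpowers_le.2 q.2))
    have hPgN : Pg ≤ N :=
      le_normalizer.trans (normalizer_le_zj Pg)
    have hQN : Q ≤ N := sup_le hPgN (zpowers_le.2
      (normalizer_le_zj Pg hqn))
    obtain ⟨b, hb⟩ := IsPGroup.iff_card.1 hQp
    have hbN : p ^ b ∣ Nat.card N := hb ▸ card_dvd_of_le hQN
    have hPgc : Nat.card Pg = p ^ (Nat.card H).factorization p := by
      rw [hPg, card_map_of_injective H.subtype_injective, P.card_eq_multiplicity]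
    have hlt' : Nat.card Pg < Nat.card Q := lt_of_le_of_ne (card_le_of_le le_sup_left) fun e => hqP
      (mem_subgroupOf.2 (eq_of_le_of_card_ge (le_sup_left : Pg ≤ Q) e.ge ▸ mem_sup_right (mem_zpowers _)))
    rw [hPgc, hb] at hlt'
    exact lt_of_lt_of_le ((Nat.pow_lt_pow_iff_right (Fact.out : p.Prime).one_lt).1 hlt')
      ((Fact.out : p.Prime).pow_dvd_iff_le_factorization Nat.card_pos.ne' |>.1 hbN)
  -- `R` is moved by the core of `N`
  have hRN : R ≤ N :=
    hRPg.trans (le_normalizer.trans (normalizer_le_zj Pg))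
  have hUR : F.U ≤ normalizer (R : Set G) := hf.1.trans hHR
  have hUC : F.U ≤ normalizer (Core N : Set G) := hNf.1.trans (le_normalizer_core N)
  obtain ⟨s, hsU, hs1, hsR⟩ := hOdd N hNtop hNf.1 R hRN (odd_of_pgroup hp hRp) hUR
  obtain ⟨g₁, hg₁, hg₁U, hrot₁⟩ := exists_rot F hKf
  have hmod := F.all_of_rot hrot₁ (P := fun s => ∀ k ∈ R, k⁻¹ * (s * k * s⁻¹) ∈ Core N)
    (fun s _ _ h k hk => by
      have h1 := (mem_normalizer_iff.1 (le_normalizer_core N (hKN hg₁)) _).1
        (h _ ((mem_normalizer_iff''.1 (hHR (hKH hg₁)) k).1 hk))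
      rwa [show g₁ * ((g₁⁻¹ * k * g₁)⁻¹ * (s * (g₁⁻¹ * k * g₁) * s⁻¹)) * g₁⁻¹ =
        k⁻¹ * (g₁ * s * g₁⁻¹ * k * (g₁ * s * g₁⁻¹)⁻¹) by group] at h1) hsU hs1 hsR
  obtain ⟨P₀, hP₀, hP₀K, hP₀p, hP₀s, hP₀U⟩ := F.exists_sylow_over (odd_card_core N) hUC
    (X := R ⊓ Core N) inf_le_right (hRp.to_le inf_le_left) (Cfsg.Lib.Coprime.le_normalizer_inf hUR hUC)
  have hP₀mov : ¬ P₀ ≤ centralizer (F.U : Set G) := by
    intro hcen
    refine hmov fun x hx => ?_
    refine Cfsg.Lib.Coprime.centralizes_of_coprime_chain (A := F.U) (D := R ⊓ Core N)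
      (F.coprime_U ((odd_of_pgroup hp hRp).of_dvd_nat (card_dvd_of_le inf_le_left)))
      (Subgroup.le_centralizer_iff.1 (hP₀.trans hcen)) fun a ha => ?_
    rw [show x⁻¹ * a * x * a⁻¹ = x⁻¹ * (a * x * a⁻¹) by group]
    refine mem_inf.2 ⟨mul_mem (inv_mem hx) ((mem_normalizer_iff.1 (hUR ha) x).1 hx), ?_⟩
    rcases F.mem_U.1 ha with e | e | e | e <;> subst e
    · simp
    · exact hmod.1 x hx
    · exact hmod.2 x hx
    · have h1 := hmod.2 x hx
      have h2 := hmod.1 (F.u * x * F.u⁻¹) ((mem_normalizer_iff.1 (hUR F.u_mem_U) x).1 hx)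
      have := mul_mem h1 h2
      rwa [show x⁻¹ * (F.u * x * F.u⁻¹) * ((F.u * x * F.u⁻¹)⁻¹ * (F.t * (F.u * x * F.u⁻¹) * F.t⁻¹)) =
        x⁻¹ * (F.t * F.u * x * (F.t * F.u)⁻¹) by group] at this
  refine ⟨N ⊓ normalizer (P₀ : Set G), fun e => hNtop (top_le_iff.1 (e ▸ inf_le_left)),
    rot_inf_normalizer F hNf hP₀K hP₀p hP₀s hP₀U, fun h => hP₀mov ?_, ?_⟩
  · exact (le_opc (le_inf (hP₀K.trans (core_le N)) le_normalizer) inf_le_right hP₀p).trans h
  · refine hlt.trans_le (le_of_eq ?_)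
    set N' := N ⊓ normalizer (P₀ : Set G) with hN'
    have hN'N : N' ≤ normalizer (Core N : Set G) := inf_le_left.trans (le_normalizer_core N)
    have hsup : Core N ⊔ N' = N := by
      refine le_antisymm (sup_le (core_le N) inf_le_left) fun g hg => ?_
      have hle : P₀.map (MulAut.conj g).toMonoidHom ≤ Core N := by
        rintro _ ⟨x, hx, rfl⟩
        exact (mem_normalizer_iff.1 (le_normalizer_core N hg) x).1 (hP₀K hx)
      let S₀ : Sylow p (Core N) := (hP₀p.comap_subtype (K := Core N)).toSylow hP₀s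
      let S₁ : Sylow p (Core N) := Sylow.ofCard ((P₀.map (MulAut.conj g).toMonoidHom).subgroupOf (Core N)) (by
        rw [Nat.card_congr (subgroupOfEquivOfLe hle).toEquiv, card_map_of_injective (MulAut.conj g).injective,
          ← S₀.card_eq_multiplicity]
        exact (Nat.card_congr (subgroupOfEquivOfLe hP₀K).toEquiv).symm)
      obtain ⟨c, hc⟩ := MulAction.exists_smul_eq (Core N) S₀ S₁
      have h2 := congrArg (fun S : Sylow p (Core N) => (S : Subgroup (Core N)).map (Core N).subtype) hc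
      simp only [Cfsg.Lib.Coprime.map_subtype_smul, S₁, Sylow.coe_ofCard, map_subgroupOf_eq_of_le hle,
        show (S₀ : Subgroup (Core N)).map (Core N).subtype = P₀ from map_subgroupOf_eq_of_le hP₀K] at h2
      rw [← mul_inv_cancel_left (c : G) g]
      refine mul_mem_sup c.2 (mem_inf.2 ⟨mul_mem (inv_mem (core_le N c.2)) hg, ?_⟩)
      rw [← Cfsg.Lib.Coprime.conjMap_eq_self_iff, ← Cfsg.Lib.Coprime.conjMap_mul,
        show Cfsg.Lib.Coprime.conjMap g P₀ = Cfsg.Lib.Coprime.conjMap (c : G) P₀ from h2.symm,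
        Cfsg.Lib.Coprime.conjMap_inv_conjMap]
    have hcard := Cfsg.Lib.Coprime.card_sup_mul_card_inf hN'N
    rw [hsup] at hcard
    have hinf : (Nat.card ↥(Core N ⊓ N')).factorization p = (Nat.card (Core N)).factorization p := by
      have hle : P₀ ≤ Core N ⊓ N' := le_inf hP₀K (le_inf (hP₀K.trans (core_le N)) le_normalizer)
      obtain ⟨b, hb⟩ := IsPGroup.iff_card.1 hP₀p
      have hbb : b = (Nat.card (Core N)).factorization p := by
        have h1 := ((hP₀p.comap_subtype (K := Core N)).toSylow hP₀s).card_eq_multiplicity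
        have h3 : Nat.card P₀ = p ^ (Nat.card (Core N)).factorization p := by
          rw [← h1]; exact (Nat.card_congr (subgroupOfEquivOfLe hP₀K).toEquiv).symm
        exact Nat.pow_right_injective (Fact.out : p.Prime).two_le (hb.symm.trans h3)
      refine le_antisymm ((Nat.factorization_le_iff_dvd Nat.card_pos.ne' Nat.card_pos.ne').2
        (card_dvd_of_le inf_le_left) p) ?_
      rw [← hbb]
      exact ((Fact.out : p.Prime).pow_dvd_iff_le_factorization Nat.card_pos.ne').1 (hb ▸ card_dvd_of_le hle)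
    have h := congrArg (fun n => n.factorization p) hcard
    simp only [Nat.factorization_mul Nat.card_pos.ne' Nat.card_pos.ne', Finsupp.coe_add, Pi.add_apply,
      hinf] at h
    omega

/-- `Lc`: in a fusing proper subgroup `U` centralises the invariant `p`-subgroups of the odd core -/
theorem coreFixed_of_weak (hm : Minimal G) (hOdd : F.OddSpec) {p : ℕ} (hp : p ≠ 2)
    [Fact p.Prime] (hyp : ∀ P : Sylow p G, (∃ i : G, orderOf i = 2 ∧ (P : Subgroup G) ≤ centralizer {i}) ∨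
      ¬ Rot F (normalizer (Cfsg.centerThompsonAOf (P : Subgroup G) : Set G))) :
    CoreFixed F p := by
  intro H hH hf X hXp hX hXU
  have hmain : ∀ m, ∀ N : Subgroup G, N ≠ ⊤ → Rot F N → Nat.card G - (Nat.card N).factorization p = m →
      opc p N ≤ centralizer (F.U : Set G) := by
    intro m
    induction m using Nat.strong_induction_on with
    | _ m ih =>
    intro N hN hNf hcard
    by_contra hmov
    obtain ⟨N', h1, h2, h3, h4⟩ := exists_bigger F hm hOdd hp hyp hN hNf hmov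
    have h5 : (Nat.card N').factorization p ≤ Nat.card G :=
      le_trans (Nat.factorization_lt p Nat.card_pos.ne').le (card_le_card_group N')
    exact h3 (ih _ (by omega) N' h1 h2 rfl)
  obtain ⟨P, hXP, hPK, hPp, hPs, hPU⟩ := F.exists_sylow_over (odd_card_core H)
    (hf.1.trans (le_normalizer_core H)) hX hXp hXU
  exact hXP.trans ((le_opc (le_inf (hPK.trans (core_le H)) le_normalizer) inf_le_right hPp).trans
    (hmain _ _ (fun e => hH (top_le_iff.1 (e ▸ inf_le_left)))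
      (rot_inf_normalizer F hf hPK hPp hPs hPU) rfl))

/-- `Lc` when every Sylow `p`-subgroup is centralised by an involution. -/
theorem coreFixed_of_involution (hm : Minimal G) (hOdd : F.OddSpec) {p : ℕ} (hp : p ≠ 2)
    [Fact p.Prime] (hyp : ∀ P : Sylow p G, ∃ i : G, orderOf i = 2 ∧ (P : Subgroup G) ≤ centralizer {i}) :
    CoreFixed F p :=
  coreFixed_of_weak F hm hOdd hp fun P => Or.inl (hyp P)

/-- `Lc` when no normaliser of the `ZJ` of a Sylow `p`-subgroup rotates the four-group. -/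
theorem coreFixed_of_noZJ (hm : Minimal G) (hOdd : F.OddSpec) {p : ℕ} (hp : p ≠ 2) [Fact p.Prime]
    (hyp : NoZJ F p) : CoreFixed F p :=
  coreFixed_of_weak F hm hOdd hp fun P => Or.inr (hyp P)

end Cfsg.Lib.GWD
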