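import Cfsg.Agent.GWDihedral.Setting
import Cfsg.Agent.FourGroupGW.Basic

/-!
GW dihedral, the interface between the proper subgroups and the local analysis.  A four-group with a rotation is
a `GW.Frame`; statements about all four-groups quantify over all frames.
-/

set_option autoImplicit false

namespace Cfsg.Lib.GWD

open Subgroup
open Cfsg.Lib.GW (Core)

universe u

variable {G : Type u} [Group G]

/-- No Sylow `p`-subgroup has the four-group rotated in the normaliser of its `ZJ`. -/
def NoZJ (F : GW.Frame G) (p : ℕ) : Prop :=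
  ∀ P : Sylow p G, ¬ Rot F (normalizer (Cfsg.centerThompsonAOf (P : Subgroup G) : Set G))

/-- `Lc`: where the four-group is rotated it centralises the invariant `p`-subgroups of the odd core. -/
def CoreFixed (F : GW.Frame G) (p : ℕ) : Prop :=
  ∀ H : Subgroup G, H ≠ ⊤ → Rot F H → ∀ P : Subgroup G, IsPGroup p P → P ≤ Core H →
    F.U ≤ normalizer (P : Set G) → P ≤ centralizer (F.U : Set G)

/-- A Sylow `p`-subgroup of `O` when `O_p(O) ≠ 1`. -/
structure SylData (F : GW.Frame G) (p : ℕ) (S : Subgroup G) : Prop where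
  prime : p.Prime
  ne_bot : F.R p ≠ ⊥
  le : S ≤ F.O
  pgroup : IsPGroup p S
  sylow : ¬ p ∣ S.relIndex F.O

/-- No conjugate of the four-group of `F'` inside `C` centralises `S`. -/
def Moved (F : GW.Frame G) (S : Subgroup G) (F' : GW.Frame G) : Prop :=
  ∀ g : G, F'.U.map (MulAut.conj g).toMonoidHom ≤ F.C →
    ¬ S ≤ centralizer ((F'.U.map (MulAut.conj g).toMonoidHom : Subgroup G) : Set G)

/-- Every involution of `C` other than `t` moves `S`. -/
def Full (F : GW.Frame G) (S : Subgroup G) : Prop :=
  ∀ v ∈ F.C, orderOf v = 2 → v ≠ F.t → ¬ S ≤ centralizer {v}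

end Cfsg.Lib.GWD
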